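import Cfsg.Agent.H435.P3.Qd_m3
import Cfsg.Agent.LieExceptional.CITDihedral
import Cfsg.Agent.LieClassical.FieldTransfer
import Cfsg.Agent.Lib.Cores
import Cfsg.Agent.Lib.MinNormalNonabelian
import Cfsg.Agent.TwoFusion.DihedralFusion
import Cfsg.Agent.SectRankFour.AutM11
import Cfsg.Agent.S0483
import Cfsg.Agent.S0507
import Cfsg.Agent.S1190
import Cfsg.Agent.S0204
import Cfsg.Agent.H352.Order120
import Cfsg.Agent.H26.SolvPPrime
import Cfsg.Agent.UAlt.AutFive
import Cfsg.Prelude.Def_Classification2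
import Cfsg.Agent.TwoFusion.MaxClass
import Cfsg.Agent.S0144
import Cfsg.Agent.H817.UThreeFiveMain
import Mathlib
import Cfsg.Agent.TwoFusion.PSL3Inv
import Cfsg.Agent.TwoFusion.LocalIndex
import Cfsg.Agent.S0280
import Cfsg.Agent.SectRankFour.OutLie
import Cfsg.Agent.SectRankFour.AutAlt
import Cfsg.Agent.SylowLFive.Frame_m3
import Cfsg.Agent.Lib.PSL2Torus
import Cfsg.Agent.S0243
import Cfsg.Agent.FastGrp
import Cfsg.Agent.Prune
set_option linter.all false

section
prune_inst 0x7ffcfcfbabf8addeffff7e7ffefddffc39d05fffefdff94bffe8e9ff2fdf23086fc5fb8f0de050ff1ef6e09410b87853f9ffc67fea6bdc7ffffd5ff45ffbee1fe5f7bd0851969c340fbc2fff83f0778e7f3fffffffffffffffffffffffffffbeffffffffffff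

-- part: H219/FourCase
section
prune_inst 0x200040100000000000000000002000480001000020000141200c00080121020000090008a000000022a2000000004000800050000000000000000000000120802b520612340104240001801084000000000000000000000000000000000000000000000
set_option linter.all false
open scoped Cfsg.Agent.FastGrp

-- part: H219/FourSelf
section
/-!
# Simple groups with a self-centralizing four-subgroup (helper219)

Light copies (without the import of the classification) of the lemmas of helper435
(`H435.P3.Base`, `H435.P3.Fix`, `H435.P3.Klass`, `H435.P3.Mathieu`).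
-/

set_option autoImplicit false

namespace Cfsg.Agent.H219.FourSelf

open Cfsg Cfsg.Agent.H435 Cfsg.Agent.H435.P3 Subgroup Cfsg.Agent.SporadicA.SharpFour
open Cfsg.Agent.Lib.MinNormalNonabelian (minSet map_conj_mem_minSet nonabelian_structure)
open scoped commutatorElement Pointwise

section Fin

variable {G : Type*} [Group G]

/-- two different simple factors commute -/
theorem commute_of_minSet [Finite G] {M : Subgroup G} [M.Normal]
    (hmin : ∀ N : Subgroup G, N.Normal → N ≤ M → N = ⊥ ∨ N = M)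
    (hna : ¬ ∀ x ∈ M, ∀ y ∈ M, Commute x y) {S T : Subgroup G} (hS : S ∈ minSet M) (hT : T ∈ minSet M)
    (hne : S ≠ T) : ∀ x ∈ S, ∀ y ∈ T, Commute x y := by
  obtain ⟨-, hind, -, -, -, -⟩ := nonabelian_structure M hmin hna
  have hd : Disjoint S T := by
    have h1 := hind hS
    refine h1.mono_right (le_sSup ?_)
    exact ⟨hT, fun h => hne (Set.mem_singleton_iff.1 h).symm⟩
  intro x hx y hy
  exact Cfsg.Agent.Lib.MinNormal.commute_of_disjoint (hS.1.trans hT.2.2.1) (hT.1.trans hS.2.2.1) hd hx hy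


end Fin

section Fix

variable {G : Type*} [Group G] [Finite G]

theorem odd_of_fix {N V : Subgroup G} (hVN : V ≤ normalizer (N : Set G)) (hV : IsPGroup 2 V)
    (h : ∀ x ∈ N, (∀ v ∈ V, v * x = x * v) → x = 1) : Odd (Nat.card N) := by
  have : Fact (Nat.Prime 2) := ⟨Nat.prime_two⟩
  let f : V →* MulAut N := N.normalizerMonoidHom.comp (inclusion hVN)
  have hf : ∀ (v : V) (n : N), ((f v n : N) : G) = v * n * (v : G)⁻¹ := fun v n => rfl
  let _ : MulAction V N := MulAction.compHom N f
  have hact : ∀ (v : V) (n : N), v • n = f v n := fun v n => rfl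
  have h1 := hV.card_modEq_card_fixedPoints N
  have h2 : MulAction.fixedPoints V N = {1} := by
    ext n
    rw [MulAction.mem_fixedPoints, Set.mem_singleton_iff]
    constructor
    · intro hn
      apply Subtype.ext
      apply h n n.2
      intro v hv
      have h3 := congrArg Subtype.val (hn ⟨v, hv⟩)
      rw [hact, hf] at h3
      exact mul_inv_eq_iff_eq_mul.1 h3
    · rintro rfl v
      rw [hact, map_one]
  rw [h2, Nat.card_coe_set_eq, Set.ncard_singleton] at h1
  rw [Nat.odd_iff]
  exact h1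

/-- a 2-group acting on a group of even order centralizes an involution -/
theorem exists_fix {N V : Subgroup G} (hVN : V ≤ normalizer (N : Set G)) (hV : IsPGroup 2 V)
    (h : 2 ∣ Nat.card N) : ∃ x ∈ N, x ≠ 1 ∧ ∀ v ∈ V, v * x = x * v := by
  by_contra hcon
  push Not at hcon
  have h1 := odd_of_fix hVN hV (fun x hx hv => by
    by_contra hx1
    obtain ⟨v, hv', hne⟩ := hcon x hx hx1
    exact hne (hv v hv'))
  rw [Nat.odd_iff] at h1
  omega

omit [Finite G] in
/-- a Klein four-group is a 2-group -/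
theorem isPGroup_of_klein {V : Subgroup G} (hV : IsKleinFour V) : IsPGroup 2 V :=
  IsPGroup.of_card (n := 2) (by rw [hV.card_four]; norm_num)

theorem even_of_simple {T : Type*} [Group T] [Finite T] [IsSimpleGroup T] (h : ∃ a b : T, a * b ≠ b * a) :
    4 ∣ Nat.card T := by
  have hc : ¬ IsCyclic T := by
    intro hc
    obtain ⟨a, b, hab⟩ := h
    exact hab ((IsCyclic.isMulCommutative (α := T)).is_comm.comm a b)
  obtain ⟨E, hE⟩ := S0204.result hc
  rw [← hE.card_four]
  exact card_subgroup_dvd_card E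

/-- a Klein four-group is generated by two of its involutions -/
theorem eq_fourGroup {V : Subgroup G} (hV : IsKleinFour V) {x y : G} (hx : x ∈ V) (hy : y ∈ V) (hx1 : x ≠ 1)
    (hy1 : y ≠ 1) (hxy : x ≠ y) : ∀ a ∈ V, a = 1 ∨ a = x ∨ a = y ∨ a = x * y := by
  have hxx := S1190.klein_sq hV hx
  have hyy := S1190.klein_sq hV hy
  have hc := S1190.klein_comm hV hx hy
  have hK := TwoFusion.DihedralFusion.isKleinFour_fourGroup hxx hyy hc hx1 hy1 hxy
  have h1 : TwoFusion.DihedralFusion.fourGroup x y hxx hyy hc = V := by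
    apply eq_of_le_of_card_ge (TwoFusion.DihedralFusion.fourGroup_le hxx hyy hc hx hy)
    rw [hK.card_four, hV.card_four]
  intro a ha
  rw [← h1] at ha
  exact TwoFusion.DihedralFusion.mem_fourGroup.1 ha

theorem simple_of_four {N V : Subgroup G} [N.Normal]
    (hmin : ∀ M : Subgroup G, M.Normal → M ≤ N → M = ⊥ ∨ M = N)
    (hna : ¬ ∀ x ∈ N, ∀ y ∈ N, Commute x y) (hV : IsKleinFour V) (hVN : V ≤ N)
    (hC : ∀ x ∈ N, (∀ v ∈ V, v * x = x * v) → x ∈ V) : IsSimpleGroup N := by
  obtain ⟨⟨T, hT⟩, hind, hsup, hsimp, hZ, -⟩ := nonabelian_structure N hmin hna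
  by_cases hone : ∀ U ∈ minSet N, U = T
  · have h1 : N = T := by
      rw [← hsup]
      apply le_antisymm
      · exact sSup_le fun U hU => (hone U hU).le
      · exact le_sSup hT
    rw [h1]
    exact hsimp T hT
  · exfalso
    push Not at hone
    obtain ⟨U, hU, hUT⟩ := hone
    have key : ∀ A ∈ minSet N, 4 ∣ Nat.card A := by
      intro A hA
      have := hsimp A hA
      apply even_of_simple
      by_contra hcon
      push Not at hcon
      obtain ⟨z, hz⟩ := exists_ne (1 : A)
      apply hz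
      apply Subtype.ext
      apply hZ A hA z z.2
      intro s hs
      exact congrArg Subtype.val (hcon z ⟨s, hs⟩)
    have hp := isPGroup_of_klein hV
    obtain ⟨x, hxT, hx1, hxV⟩ := exists_fix (hVN.trans hT.2.2.1) hp (Dvd.dvd.trans (by norm_num) (key T hT))
    obtain ⟨y, hyU, hy1, hyV⟩ := exists_fix (hVN.trans hU.2.2.1) hp (Dvd.dvd.trans (by norm_num) (key U hU))
    have hx := hC x (hT.1 hxT) hxV
    have hy := hC y (hU.1 hyU) hyV
    have hdis : ∀ a ∈ T, ∀ b ∈ U, Commute a b := commute_of_minSet hmin hna hT hU (Ne.symm hUT)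
    have hinf : ∀ a ∈ T, a ∈ U → a = 1 := fun a ha hb => hZ T hT a ha fun s hs => (hdis s hs a hb).symm
    have hxy : x ≠ y := by
      rintro rfl
      exact hx1 (hinf x hxT hyU)
    -- `V = {1, x, y, x y}`
    have hVeq : ∀ a ∈ V, a = 1 ∨ a = x ∨ a = y ∨ a = x * y := eq_fourGroup hV hx hy hx1 hy1 hxy
    -- a subgroup of order 4 of `T` containing `x`
    have : Fact (Nat.Prime 2) := ⟨Nat.prime_two⟩
    have hxx : x * x = 1 := S1190.klein_sq hV hx
    have hxo : orderOf (⟨x, hxT⟩ : T) = 2 := by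
      apply orderOf_eq_prime
      · apply Subtype.ext
        change x ^ 2 = 1
        rw [pow_two, hxx]
      · intro h
        exact hx1 (congrArg Subtype.val h)
    obtain ⟨K, hK, hxK⟩ := Sylow.exists_subgroup_card_pow_succ (p := 2) (n := 1) (G := T)
      (by simpa using key T hT) (H := zpowers (⟨x, hxT⟩ : T)) (by rw [Nat.card_zpowers, hxo, pow_one])
    have hK' : Nat.card K = 2 ^ 2 := hK
    have hcomm : ∀ a b : K, a * b = b * a := (IsPGroup.isMulCommutative_of_card_eq_prime_sq hK').is_comm.comm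
    have hxK' : (⟨x, hxT⟩ : T) ∈ K := hxK (mem_zpowers _)
    -- `K` centralizes `V`
    have hKV : ∀ k ∈ K, ∀ a ∈ V, a * (k : G) = (k : G) * a := by
      intro k hk a ha
      have hkx : x * (k : G) = (k : G) * x :=
        congrArg (fun z : K => ((z : T) : G)) (hcomm ⟨_, hxK'⟩ ⟨k, hk⟩)
      have hky : y * (k : G) = (k : G) * y := ((hdis k k.2 y hyU).eq).symm
      rcases hVeq a ha with rfl | rfl | rfl | rfl
      · rw [one_mul, mul_one]
      · exact hkx
      · exact hky
      · rw [mul_assoc, hky, ← mul_assoc, hkx, mul_assoc]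
    have hKle : ∀ k ∈ K, (k : G) = 1 ∨ (k : G) = x := by
      intro k hk
      have h1 := hC k (hT.1 k.2) (fun a ha => hKV k hk a ha)
      rcases hVeq _ h1 with h | h | h | h
      · exact Or.inl h
      · exact Or.inr h
      · exact Or.inl (hinf _ k.2 (by rw [h]; exact hyU))
      · exfalso
        have h2 : y = x⁻¹ * k := by rw [h]; group
        have h3 : y ∈ T := by rw [h2]; exact T.mul_mem (T.inv_mem hxT) k.2
        exact hy1 (hinf y h3 hyU)
    have hcardK : Nat.card K ≤ 2 := by
      have h1 : ∀ k : K, k = 1 ∨ k = ⟨⟨x, hxT⟩, hxK'⟩ := fun k => by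
        rcases hKle k k.2 with h | h
        · exact Or.inl (Subtype.ext (Subtype.ext h))
        · exact Or.inr (Subtype.ext (Subtype.ext h))
      rw [← Set.ncard_univ]
      refine (Set.ncard_le_ncard (t := {1, ⟨⟨x, hxT⟩, hxK'⟩}) (fun c _ => h1 c)).trans
        ((Set.ncard_insert_le _ _).trans (by rw [Set.ncard_singleton]))
    rw [hK'] at hcardK
    norm_num at hcardK

/-- a subgroup of index two is normalized -/
theorem le_normalizer_of_card {A K : Subgroup G} (hAK : A ≤ K) (h : Nat.card K = 2 * Nat.card A) :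
    K ≤ normalizer (A : Set G) := by
  have h1 := card_mul_index (A.subgroupOf K)
  rw [Nat.card_congr (subgroupOfEquivOfLe hAK).toEquiv, h, mul_comm 2] at h1
  have h2 : (A.subgroupOf K).index = 2 := Nat.eq_of_mul_eq_mul_left Nat.card_pos h1
  exact (normal_subgroupOf_iff_le_normalizer hAK).1 (normal_of_index_eq_two h2)


end Fix

theorem perfect {G : Type*} [Group G] [IsSimpleGroup G] (hG : ¬ IsMulCommutative G) : Group.IsPerfect G := by
  rw [Group.isPerfect_def]
  have hn : (commutator G).Normal := inferInstance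
  rcases hn.eq_bot_or_eq_top with h | h
  · exfalso
    apply hG
    refine ⟨⟨fun a b => ?_⟩⟩
    have h3 : ⁅a, b⁆ ∈ commutator G := commutator_mem_commutator (mem_top a) (mem_top b)
    rw [h, mem_bot, commutatorElement_eq_one_iff_mul_comm] at h3
    exact h3
  · exact h

theorem qd_congr {A B : Type*} [Group A] [Group B] (h : IsQuasiDihedral A) (e : A ≃* B) : IsQuasiDihedral B := by
  obtain ⟨n, hn, hc, x, y, hx, hy, hxy⟩ := h
  refine ⟨n, hn, by rw [← Nat.card_congr e.toEquiv, hc], e x, e y, by rw [MulEquiv.orderOf_eq, hx],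
    by rw [MulEquiv.orderOf_eq, hy], ?_⟩
  rw [← map_mul, ← map_inv, ← map_mul, hxy, map_pow]

theorem card_le_two {A : Type*} [Finite A] (a b : A) (h : ∀ c, c = a ∨ c = b) : Nat.card A ≤ 2 := by
  rw [← Set.ncard_univ]
  refine (Set.ncard_le_ncard (t := {a, b}) (fun c _ => ?_)).trans
    ((Set.ncard_insert_le _ _).trans (by rw [Set.ncard_singleton]))
  exact h c

theorem two_ne {F : Type*} [Field F] [Fintype F] (h : Odd (Fintype.card F)) : (2 : F) ≠ 0 := by
  intro h2
  obtain ⟨p, hp⟩ := CharP.exists F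
  have hpp : p.Prime := (CharP.char_is_prime_or_zero F p).resolve_right (CharP.char_ne_zero_of_finite F p)
  have h1 : p ∣ 2 := (CharP.cast_eq_zero_iff F p 2).1 (by exact_mod_cast h2)
  have h3 := (Nat.prime_dvd_prime_iff_eq hpp Nat.prime_two).1 h1
  subst h3
  obtain ⟨n, -, hn⟩ := FiniteField.card F 2
  rw [hn] at h
  exact (Nat.not_odd_iff_even.2 ((Nat.even_pow' n.pos.ne').2 even_two)) h

theorem map_centralizer_le {G K : Type*} [Group G] [Group K] {V : Subgroup G} (hC : centralizer (V : Set G) ≤ V)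
    (f : G ≃* K) : centralizer (V.map f.toMonoidHom : Set K) ≤ V.map f.toMonoidHom := by
  intro g hg
  obtain ⟨a, rfl⟩ := f.surjective g
  refine ⟨a, hC ?_, rfl⟩
  rw [mem_centralizer_iff] at hg ⊢
  intro v hv
  apply f.injective
  rw [map_mul, map_mul]
  exact hg (f v) ⟨v, hv, rfl⟩

/-- **simple groups with a self-centralizing four-subgroup** -/
theorem klass {G : Type*} [Group G] [Finite G] [IsSimpleGroup G] {V : Subgroup G} (hV : IsKleinFour V)
    (hC : centralizer (V : Set G) ≤ V) :
    (∃ (F : Type) (_ : Field F) (_ : Fintype F), Odd (Fintype.card F) ∧ 3 < Fintype.card F ∧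
      Nonempty (G ≃* Matrix.ProjectiveSpecialLinearGroup (Fin 2) F)) ∨
    Nonempty (G ≃* alternatingGroup (Fin 7)) ∨
    (16 ∣ Nat.card G ∧ (Nonempty (G ≃* Matrix.ProjectiveSpecialLinearGroup (Fin 3) (ZMod 3)) ∨ IsM11 G)) := by
  have hna : ¬ IsMulCommutative G := by
    intro hc
    have h1 : centralizer (V : Set G) = ⊤ := by
      rw [eq_top_iff]
      intro g _
      rw [mem_centralizer_iff]
      intro v _
      exact hc.is_comm.comm v g
    rw [h1, top_le_iff] at hC
    -- `G` would be a Klein four-group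
    obtain ⟨v, hv⟩ := exists_ne (1 : G)
    have h2 : zpowers v = ⊤ := by
      have hn : (zpowers v).Normal := ⟨fun x hx g => by
        rw [hc.is_comm.comm g x, mul_inv_cancel_right]; exact hx⟩
      rcases hn.eq_bot_or_eq_top with h | h
      · exact absurd (zpowers_eq_bot.1 h) hv
      · exact h
    have h3 : v * v = 1 := S1190.klein_sq hV (by rw [hC]; exact mem_top v)
    have h4 := hV.card_four
    rw [hC, ← h2, Nat.card_zpowers] at h4
    have h5 : orderOf v ∣ 2 := orderOf_dvd_of_pow_eq_one (by rw [pow_two, h3])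
    rw [h4] at h5
    norm_num at h5
  have hp : IsPGroup 2 V := IsPGroup.of_card (n := 2) (by rw [hV.card_four]; norm_num)
  obtain ⟨S, hVS⟩ := hp.exists_le_sylow
  have hVsq : ∀ v ∈ V, v * v = 1 := fun v hv => S1190.klein_sq hV hv
  have hVcomm : ∀ v ∈ V, ∀ w ∈ V, v * w = w * v := fun v hv w hw => S1190.klein_comm hV hv hw
  have hcase := LieExceptional.CITDihedral.dihedral_or_qd S.isPGroup' (V.subgroupOf S)
    (by rw [Nat.card_congr (subgroupOfEquivOfLe hVS).toEquiv, hV.card_four])
    (fun v hv => Subtype.ext (hVsq v hv))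
    (by
      apply le_antisymm
      · intro g hg
        rw [mem_subgroupOf]
        apply hC
        rw [mem_centralizer_iff]
        intro v hv
        exact congrArg Subtype.val (mem_centralizer_iff.1 hg ⟨v, hVS hv⟩ hv)
      · intro g hg
        rw [mem_centralizer_iff]
        intro v hv
        exact Subtype.ext (hVcomm v hv g hg))
  rcases hcase with ⟨m, hm, hD⟩ | hQ
  · have := perfect hna
    have hodd : oddCore G = ⊥ := by
      have hn : (oddCore G).Normal := Lib.Cores.pPrimeCore_normal 2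
      rcases hn.eq_bot_or_eq_top with h | h
      · exact h
      · exfalso
        have h3 : (Nat.card (oddCore G)).Coprime 2 := Lib.Cores.pPrimeCore_coprime 2
        rw [h, Subgroup.card_top] at h3
        have h4 : 2 ∣ Nat.card G := Dvd.dvd.trans (by rw [hV.card_four]; norm_num) (card_subgroup_dvd_card V)
        have h5 := Nat.Coprime.eq_one_of_dvd h3.symm h4
        omega
    have e : (G ⧸ Cfsg.oddCore G) ≃* G :=
      (QuotientGroup.quotientMulEquivOfEq hodd).trans QuotientGroup.quotientBot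
    rcases S0483.result S m hm hD with ⟨F, i1, i2, h1, h2, ⟨f⟩⟩ | ⟨⟨f⟩⟩
    · left
      exact ⟨F, i1, i2, h1, h2, ⟨e.symm.trans f⟩⟩
    · right
      left
      exact ⟨e.symm.trans f⟩
  · right
    right
    refine ⟨?_, ?_⟩
    · obtain ⟨n, hn, hc, -⟩ := hQ
      refine Dvd.dvd.trans ?_ (card_subgroup_dvd_card (S : Subgroup G))
      rw [hc, show (16 : ℕ) = 2 ^ 4 from rfl]
      exact pow_dvd_pow 2 (by omega)
    rcases S0507.result S hQ with ⟨F, i1, i2, h1, ⟨f⟩⟩ | ⟨F, i1, i2, q, h1, h2, ⟨f⟩⟩ | h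
    · left
      let S' := S.mapSurjective (f := f.toMonoidHom) f.surjective
      have e2 : (S : Subgroup G) ≃* ((S : Subgroup G).map f.toMonoidHom : Subgroup _) := (S : Subgroup G).equivMapOfInjective _ f.injective
      have hV' : IsKleinFour (V.map f.toMonoidHom) :=
        TwoFusion.DihedralFour.isKleinFour_map _ f.injective _ hV
      have hC' := map_centralizer_le hC f
      have h3 : ∀ c : Fˣ, c = 1 ∨ c = -1 := Qd.psl3 (two_ne (Nat.odd_iff.2 (by omega))) S' (qd_congr hQ e2) hV' hC'
      have h4 := card_le_two _ _ h3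
      rw [Elts.card_units_eq] at h4
      have h5 : Fintype.card F = 3 := by omega
      have : Fact (Nat.Prime 3) := ⟨Nat.prime_three⟩
      exact ⟨f.trans (LieClassical.FieldTransfer.pslCongr (ZMod.ringEquivOfPrime F Nat.prime_three h5).symm)⟩
    · exfalso
      let S' := S.mapSurjective (f := f.toMonoidHom) f.surjective
      have e2 : (S : Subgroup G) ≃* ((S : Subgroup G).map f.toMonoidHom : Subgroup _) := (S : Subgroup G).equivMapOfInjective _ f.injective
      have hV' : IsKleinFour (V.map f.toMonoidHom) :=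
        TwoFusion.DihedralFour.isKleinFour_map _ f.injective _ hV
      have hC' := map_centralizer_le hC f
      have ho : Odd q := Nat.odd_iff.2 (by omega)
      have h3 := Qd.psu3 h1 ho (two_ne (by rw [h1]; exact ho.pow)) S' (qd_congr hQ e2) hV' hC'
      have h4 : Nat.card ↥(Elts.NO F q) ≤ 2 := by
        refine card_le_two 1 ⟨-1, ?_⟩ fun c => ?_
        · rw [MonoidHom.mem_ker, powMonoidHom_apply]
          exact Even.neg_one_pow (ho.add_odd odd_one)
        · rcases h3 c with h | h
          · left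
            exact Subtype.ext (Units.ext h)
          · right
            exact Subtype.ext (Units.ext h)
      rw [Elts.card_NO h1] at h4
      have hq : 1 < q := by
        have : 1 < Fintype.card F := Fintype.one_lt_card
        rw [h1] at this
        by_contra hlt
        have : q ≤ 1 := by omega
        nlinarith
      omega
    · exact Or.inr h

theorem false_of_max {G : Type*} [Group G] [Finite G] (hG : IsM11 G) {V H : Subgroup G} (hV : IsKleinFour V)
    (hVH : H ≤ normalizer (V : Set G)) (hH : IsCoatom H) (hcard : Nat.card H = 24) : False := by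
  classical
  obtain ⟨X, _, _, _, h11, hS⟩ := SectRankFour.AutM11.exists_sharp4 hG
  have hV2 := isPGroup_of_klein hV
  have : Fact (Nat.Prime 2) := ⟨Nat.prime_two⟩
  -- fixed points of `V`
  set s : Finset X := Finset.univ.filter fun x => ∀ v ∈ V, v • x = x with hs
  have hmem : ∀ x, x ∈ s ↔ ∀ v ∈ V, v • x = x := fun x => by simp [hs]
  have hodd : s.card % 2 = 1 := by
    have h1 := hV2.card_modEq_card_fixedPoints X
    have h2 : Nat.card (MulAction.fixedPoints V X) = s.card := by
      rw [Nat.card_coe_set_eq, ← Set.ncard_coe_finset]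
      congr 1
      ext x
      rw [MulAction.mem_fixedPoints, Finset.mem_coe, hmem]
      constructor
      · intro h v hv
        exact h ⟨v, hv⟩
      · intro h v
        exact h v v.2
    rw [h2, Nat.card_eq_fintype_card, h11] at h1
    have h3 : 11 % 2 = s.card % 2 := h1
    omega
  have hle : s.card ≤ 3 := by
    by_contra hlt
    obtain ⟨t, hts, ht4⟩ := Finset.exists_subset_card_eq (show 4 ≤ s.card by omega)
    obtain ⟨x, y, z, w, hxy, hxz, hxw, hyz, hyw, hzw, rfl⟩ := Finset.card_eq_four.1 ht4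
    have h1 : ∀ v ∈ V, v = 1 := by
      intro v hv
      apply hS.eq_one v x y z w (nodup4_iff.2 ⟨hxy, hxz, hxw, hyz, hyw, hzw⟩)
      · exact (hmem x).1 (hts (by simp)) v hv
      · exact (hmem y).1 (hts (by simp)) v hv
      · exact (hmem z).1 (hts (by simp)) v hv
      · exact (hmem w).1 (hts (by simp)) v hv
    have h2 : V = ⊥ := (eq_bot_iff_forall V).2 h1
    have h3 := hV.card_four
    rw [h2, card_bot] at h3
    omega
  -- `H` preserves `s`
  have hHs : H ≤ MulAction.stabilizer G s := by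
    have key : ∀ h ∈ H, ∀ x ∈ s, h • x ∈ s := by
      intro h hh x hx
      rw [hmem] at hx ⊢
      intro v hv
      have h1 : h⁻¹ * v * h ∈ V := by
        have h2 := (mem_normalizer_iff.1 (inv_mem (hVH hh)) v).1 hv
        rwa [inv_inv] at h2
      have h2 := hx _ h1
      rw [← mul_smul]
      have h3 : v * h = h * (h⁻¹ * v * h) := by group
      rw [h3, mul_smul, h2]
    intro h hh
    rw [MulAction.mem_stabilizer_iff]
    apply Finset.eq_of_subset_of_card_le
    · intro y hy
      obtain ⟨x, hx, rfl⟩ := Finset.mem_smul_finset.1 hy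
      exact key h hh x hx
    · rw [Finset.card_smul_finset]
  -- the stabilizer is proper
  obtain ⟨a, ha⟩ : s.Nonempty := by
    rw [← Finset.card_pos]
    omega
  obtain ⟨b, hb⟩ : ∃ b, b ∉ s := by
    by_contra hcon
    push Not at hcon
    have h1 : s = Finset.univ := Finset.eq_univ_of_forall hcon
    have h2 : s.card = 11 := by rw [h1, Finset.card_univ, h11]
    omega
  have hne : MulAction.stabilizer G s ≠ ⊤ := by
    intro htop
    have hab : a ≠ b := by
      rintro rfl
      exact hb ha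
    have h9 : 2 ≤ ((Finset.univ : Finset X) \ {a, b}).card := by
      rw [Finset.card_sdiff_of_subset (Finset.subset_univ _), Finset.card_univ, h11, Finset.card_pair hab]
      norm_num
    obtain ⟨u, hu, hu2⟩ := Finset.exists_subset_card_eq h9
    obtain ⟨c, d, hcd, rfl⟩ := Finset.card_eq_two.1 hu2
    have hc : c ≠ a ∧ c ≠ b := by
      have := hu (Finset.mem_insert_self c {d})
      simpa using this
    have hd : d ≠ a ∧ d ≠ b := by
      have := hu (Finset.mem_insert_of_mem (Finset.mem_singleton_self d))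
      simpa using this
    obtain ⟨g, hg, -⟩ := hS.exists_map a b c d b a c d
      (nodup4_iff.2 ⟨hab, hc.1.symm, hd.1.symm, hc.2.symm, hd.2.symm, hcd⟩)
      (nodup4_iff.2 ⟨hab.symm, hc.2.symm, hd.2.symm, hc.1.symm, hd.1.symm, hcd⟩)
    have h1 : g ∈ MulAction.stabilizer G s := by rw [htop]; exact mem_top g
    rw [MulAction.mem_stabilizer_iff] at h1
    apply hb
    rw [← h1, ← hg]
    exact Finset.smul_mem_smul_finset ha
  rcases hH.le_iff.1 hHs with h | h
  · exact hne h
  · -- counting
    have h1 : 24 * (MulAction.orbit G s).ncard = 7920 := by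
      rw [← hG.2, ← card_mul_index (MulAction.stabilizer G s), MulAction.index_stabilizer, h, hcard]
    have h3 : (MulAction.orbit G s).ncard ≤ ((Finset.univ : Finset X).powersetCard s.card).card := by
      rw [← Set.ncard_coe_finset]
      apply Set.ncard_le_ncard _ (Finset.finite_toSet _)
      rintro _ ⟨g, rfl⟩
      rw [Finset.mem_coe, Finset.mem_powersetCard]
      exact ⟨Finset.subset_univ _, Finset.card_smul_finset g s⟩
    rw [Finset.card_powersetCard, Finset.card_univ, h11] at h3
    have h4 : Nat.choose 11 s.card ≤ 165 := by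
      generalize s.card = k at *
      interval_cases k <;> decide
    omega


end Cfsg.Agent.H219.FourSelf
end

-- part: H219/FourCase
section
/-!
# Primitive groups with point stabilizer `N(V)`, `V` a self-centralizing four-group (helper219)
-/

set_option autoImplicit false

namespace Cfsg.Agent.H219.FourCase

open Cfsg Subgroup Cfsg.Agent.H219.FourSelf
open Cfsg.Agent.Lib.MinNormalNonabelian (minSet nonabelian_structure)
open scoped Pointwise

universe u

theorem klein_of {G : Type u} [Group G] {V : Subgroup G} (hV : Nat.card V = 4) (hV2 : ∀ x ∈ V, x * x = 1) :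
    IsKleinFour V := by
  refine ⟨hV, ?_⟩
  have h1 : Monoid.exponent V ∣ 2 := Monoid.exponent_dvd_of_forall_pow_eq_one fun x => Subtype.ext (by
    rw [pow_two]; exact hV2 x x.2)
  rcases (Nat.dvd_prime Nat.prime_two).1 h1 with h | h
  · exfalso
    have := Monoid.exp_eq_one_iff.1 h
    have h2 : Nat.card V = 1 := Nat.card_of_subsingleton 1
    omega
  · exact h

/-- an element of order 3 normalising a self-centralizing four-group permutes its involutions transitively -/
theorem trans_of_three {G : Type u} [Group G] [Finite G] {V : Subgroup G} (hV : IsKleinFour V)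
    (hC : centralizer (V : Set G) ≤ V) {a : G} (ha : a ^ 3 = 1) (ha1 : a ≠ 1)
    (han : a ∈ normalizer (V : Set G)) {x y : G} (hx : x ∈ V) (hy : y ∈ V) (hx1 : x ≠ 1) (hy1 : y ≠ 1) :
    ∃ k : ℕ, a ^ k * x * (a ^ k)⁻¹ = y := by
  have haV : ∀ z ∈ V, a * z * a⁻¹ ∈ V := fun z hz => (mem_normalizer_iff.1 han z).1 hz
  have hne : ∀ z : G, z ≠ 1 → a * z * a⁻¹ ≠ 1 := fun z hz h => hz (by
    have := mul_inv_eq_iff_eq_mul.1 h
    rw [one_mul] at this
    exact mul_left_cancel (this.trans (mul_one a).symm))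
  have h3 : ∀ z : G, a * (a * (a * z * a⁻¹) * a⁻¹) * a⁻¹ = z := fun z => by
    have h1 : a * (a * (a * z * a⁻¹) * a⁻¹) * a⁻¹ = a ^ 3 * z * (a ^ 3)⁻¹ := by
      rw [pow_succ, pow_two]; group
    rw [h1, ha, one_mul, inv_one, mul_one]
  have f1 : ∀ z ∈ V, z ≠ 1 → a * z * a⁻¹ ≠ z := by
    intro z hz hz1 hzz
    obtain ⟨w, hw, hw1, hwz⟩ : ∃ w ∈ V, w ≠ 1 ∧ w ≠ z := by
      by_contra hcon
      push Not at hcon
      have h1 : ∀ c : V, c = 1 ∨ c = ⟨z, hz⟩ := fun c => by
        by_cases hc : (c : G) = 1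
        · exact Or.inl (Subtype.ext hc)
        · exact Or.inr (Subtype.ext (hcon c c.2 hc))
      have h2 := card_le_two _ _ h1
      rw [hV.card_four] at h2
      omega
    rcases eq_fourGroup hV hz hw hz1 hw1 (Ne.symm hwz) _ (haV w hw) with h | h | h | h
    · exact hne w hw1 h
    · apply hwz
      have h1 : a * w * a⁻¹ = a * z * a⁻¹ := h.trans hzz.symm
      exact mul_left_cancel (mul_right_cancel h1)
    · have h1 : a ∈ V := by
        apply hC
        rw [mem_centralizer_iff]
        intro v hv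
        have hza : z * a = a * z := (mul_inv_eq_iff_eq_mul.1 hzz).symm
        have hwa : w * a = a * w := (mul_inv_eq_iff_eq_mul.1 h).symm
        rcases eq_fourGroup hV hz hw hz1 hw1 (Ne.symm hwz) _ hv with rfl | rfl | rfl | rfl
        · rw [one_mul, mul_one]
        · exact hza
        · exact hwa
        · rw [mul_assoc, hwa, ← mul_assoc, hza, mul_assoc]
      have h2 := S1190.klein_sq hV h1
      apply ha1
      rw [pow_succ, pow_two, h2, one_mul] at ha
      exact ha
    · have h1 : a * (z * w) * a⁻¹ = z * (z * w) := by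
        have : a * (z * w) * a⁻¹ = (a * z * a⁻¹) * (a * w * a⁻¹) := by group
        rw [this, hzz, h]
      rw [← mul_assoc z z w, S1190.klein_sq hV hz, one_mul] at h1
      have h2 := h3 w
      rw [h, h1, h] at h2
      exact hz1 (mul_right_cancel (h2.trans (one_mul w).symm))
  by_cases hyx : y = x
  · exact ⟨0, by rw [pow_zero, one_mul, inv_one, mul_one, hyx]⟩
  have hx2 := f1 x hx hx1
  rcases eq_fourGroup hV hx (haV x hx) hx1 (hne x hx1) (Ne.symm hx2) y hy with h | h | h | h
  · exact absurd h hy1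
  · exact absurd h hyx
  · exact ⟨1, by rw [pow_one, h]⟩
  · refine ⟨2, ?_⟩
    have h4 : a ^ 2 * x * (a ^ 2)⁻¹ = a * (a * x * a⁻¹) * a⁻¹ := by rw [pow_two]; group
    rw [h4]
    rcases eq_fourGroup hV hx (haV x hx) hx1 (hne x hx1) (Ne.symm hx2) _ (haV _ (haV x hx)) with h5 | h5 | h5 | h5
    · exact absurd h5 (hne _ (hne x hx1))
    · exfalso
      have h6 := h3 x
      rw [h5] at h6
      exact hx2 h6
    · exact absurd h5 (f1 _ (haV x hx) (hne x hx1))
    · rw [h5, h]

/-- a group with a normal subgroup `A₇` of trivial centralizer has order 2520 or 5040 -/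
theorem card_alt7 {G : Type u} [Group G] [Finite G] {L : Subgroup G} [L.Normal]
    (hC : centralizer (L : Set G) = ⊥) (e : L ≃* alternatingGroup (Fin 7)) :
    Nat.card G = 2520 ∨ Nat.card G = 5040 := by
  obtain ⟨ψ, hψ⟩ := UAlt.AutFive.exists_autHom_fin 7 (by norm_num) (by norm_num)
  let φ : G →* MulAut L := MulAut.conjNormal
  have hφ : ∀ (h : G) (l : L), ((φ h l : L) : G) = h * l * h⁻¹ := fun h l => rfl
  have hinj : Function.Injective φ := by
    rw [injective_iff_map_eq_one]
    intro h hh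
    have h1 : h ∈ centralizer (L : Set G) := by
      rw [mem_centralizer_iff]
      intro l hl
      have h3 := hφ h ⟨l, hl⟩
      rw [hh] at h3
      have h4 : l = h * l * h⁻¹ := h3
      nth_rw 1 [h4]
      group
    rw [hC] at h1
    exact mem_bot.1 h1
  have hψi : Function.Injective ψ := by
    rw [injective_iff_map_eq_one]
    intro a ha
    ext x
    rw [hψ a x, ha, one_mul, inv_one, mul_one]
    rfl
  let f : G →* Equiv.Perm (Fin 7) := ψ.comp ((MulAut.congr e).toMonoidHom.comp φ)
  have hf : Function.Injective f := hψi.comp ((MulAut.congr e).injective.comp hinj)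
  have h5 : Nat.card (Equiv.Perm (Fin 7)) = 5040 := by
    rw [Nat.card_eq_fintype_card, Fintype.card_perm, Fintype.card_fin]; rfl
  have hA : Nat.card L = 2520 := by
    have h7 := two_mul_nat_card_alternatingGroup (α := Fin 7)
    rw [h5] at h7
    rw [Nat.card_congr e.toEquiv]
    omega
  have h1 : Nat.card G ∣ 5040 := by rw [← h5]; exact card_dvd_of_injective f hf
  have h2 : 2520 ∣ Nat.card G := by rw [← hA]; exact card_subgroup_dvd_card L
  obtain ⟨k, hk⟩ := h2
  have hle := Nat.le_of_dvd (by norm_num) h1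
  have hpos : 0 < Nat.card G := Nat.card_pos
  have : k ≤ 2 := by omega
  interval_cases k <;> omega

/-- the minimal normal subgroup -/
theorem exists_simple {G : Type u} [Group G] [Finite G] (hsol : ¬ Group.IsSolvable G) {A V : Subgroup G} (hmax : IsCoatom A)
    (hcore : A.normalCore = ⊥) (hV : IsKleinFour V)
    (hC : centralizer (V : Set G) ≤ V) (hN : normalizer (V : Set G) = A) (hA : Nat.card A < 60)
    (h3 : 3 ∣ Nat.card A) :
    ∃ T : Subgroup G, T.Normal ∧ centralizer (T : Set G) = ⊥ ∧ IsSimpleGroup T ∧ V ≤ T ∧ T ⊔ A = ⊤ := by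
  have : Fact (Nat.Prime 2) := ⟨Nat.prime_two⟩
  have : Fact (Nat.Prime 3) := ⟨Nat.prime_three⟩
  have hAs : Group.IsSolvable A := H352.Order120.solvable_of_card_lt _ A rfl hA
  have hnt : Nontrivial G := by
    by_contra hcon
    rw [not_nontrivial_iff_subsingleton] at hcon
    exact hsol inferInstance
  obtain ⟨T, ⟨hTn, hT1⟩, hTmin⟩ := (Set.toFinite {N : Subgroup G | N.Normal ∧ N ≠ ⊥}).exists_minimal
    ⟨⊤, (inferInstance : (⊤ : Subgroup G).Normal), top_ne_bot⟩
  have hsup : T ⊔ A = ⊤ := by
    rcases hmax.le_iff.1 (le_sup_right : A ≤ T ⊔ A) with h1 | h1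
    · exact h1
    · exfalso
      apply hT1
      rw [eq_bot_iff, ← hcore]
      exact normal_le_normalCore.2 (le_sup_left.trans h1.le)
  have hTs : ¬ Group.IsSolvable T := by
    intro hs
    apply hsol
    rw [Group.isSolvable_iff_subgroup_quotient T]
    refine ⟨hs, ?_⟩
    have hsurj : Function.Surjective ((QuotientGroup.mk' T).comp A.subtype) := by
      intro q
      obtain ⟨g, rfl⟩ := QuotientGroup.mk'_surjective T q
      have hg : g ∈ T ⊔ A := by rw [hsup]; exact mem_top _
      rw [mem_sup_of_normal_left] at hg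
      obtain ⟨n, hn, k, hk, rfl⟩ := hg
      refine ⟨⟨k, hk⟩, ?_⟩
      rw [map_mul]
      have : QuotientGroup.mk' T n = 1 := (QuotientGroup.eq_one_iff n).2 hn
      rw [this, one_mul]
      rfl
    exact Group.isSolvable_of_surjective hsurj
  have hmin : ∀ M : Subgroup G, M.Normal → M ≤ T → M = ⊥ ∨ M = T := by
    intro M hM hMT
    by_cases hM1 : M = ⊥
    · exact Or.inl hM1
    · exact Or.inr (le_antisymm hMT (hTmin ⟨hM, hM1⟩ hMT))
  have hna : ¬ ∀ x ∈ T, ∀ y ∈ T, Commute x y := by
    intro h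
    apply hTs
    have : IsMulCommutative T := ⟨⟨fun a b => Subtype.ext (h a a.2 b b.2).eq⟩⟩
    exact Group.isSolvable_of_comm (fun a b => this.is_comm.comm a b)
  have h4 : 2 ∣ Nat.card T := by
    obtain ⟨⟨U, hU⟩, hind, hsup, hsimp, hZ, -⟩ := nonabelian_structure T hmin hna
    have := hsimp U hU
    have h5 : 4 ∣ Nat.card U := by
      apply even_of_simple
      by_contra hcon
      push Not at hcon
      obtain ⟨z, hz⟩ := exists_ne (1 : U)
      apply hz
      apply Subtype.ext
      apply hZ U hU z z.2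
      intro s hs
      exact congrArg Subtype.val (hcon z ⟨s, hs⟩)
    exact (Dvd.dvd.trans (by norm_num) h5).trans (card_dvd_of_le hU.1)
  have hTN : ∀ K : Subgroup G, K ≤ normalizer (T : Set G) := fun K => by
    rw [normalizer_eq_top]; exact le_top
  obtain ⟨x, hxT, hx1, hxV⟩ := exists_fix (hTN V) (isPGroup_of_klein hV) h4
  have hxV' : x ∈ V := hC (mem_centralizer_iff.2 hxV)
  obtain ⟨a, ha⟩ := exists_prime_orderOf_dvd_card' (G := A) 3 h3
  have ha3 : (a : G) ^ 3 = 1 := by
    have := pow_orderOf_eq_one a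
    rw [ha] at this
    exact congrArg Subtype.val this
  have ha1 : (a : G) ≠ 1 := by
    intro h
    have : a = 1 := Subtype.ext h
    rw [this, orderOf_one] at ha
    norm_num at ha
  have haN : (a : G) ∈ normalizer (V : Set G) := by rw [hN]; exact a.2
  have hVT : V ≤ T := by
    intro y hy
    by_cases hy1 : y = 1
    · rw [hy1]; exact one_mem _
    obtain ⟨k, hk⟩ := trans_of_three hV hC ha3 ha1 haN hxV' hy hx1 hy1
    rw [← hk]
    exact hTn.conj_mem _ hxT _
  have hsimple : IsSimpleGroup T := simple_of_four hmin hna hV hVT fun x _ hx => hC (mem_centralizer_iff.2 hx)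
  refine ⟨T, hTn, ?_, hsimple, hVT, hsup⟩
  -- the centralizer
  have h5 : centralizer (T : Set G) ≤ T := (centralizer_le hVT).trans (hC.trans hVT)
  rcases hmin (centralizer (T : Set G)) inferInstance h5 with h | h
  · exact h
  · exfalso
    apply hna
    intro x hx y hy
    have h6 : y ∈ centralizer (T : Set G) := by rw [h]; exact hy
    exact mem_centralizer_iff.1 h6 x hx

theorem four_case {G : Type u} [Group G] [Finite G] (hsol : ¬ Group.IsSolvable G) {A V : Subgroup G} (hmax : IsCoatom A)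
    (hcore : A.normalCore = ⊥) (hV : Nat.card V = 4) (hV2 : ∀ x ∈ V, x * x = 1)
    (hC : Subgroup.centralizer (V : Set G) = V) (hN : Subgroup.normalizer (V : Set G) = A)
    (hA : Nat.card A = 12 ∨ Nat.card A = 24) :
    (∃ T : Subgroup G, T.Normal ∧ Subgroup.centralizer (T : Set G) = ⊥ ∧
      ∃ (F : Type) (_ : Field F) (_ : Fintype F), Nonempty (↥T ≃* Matrix.ProjectiveSpecialLinearGroup (Fin 2) F)) ∨
    Nat.card G ∈ ({5616, 2520, 5040} : Set ℕ) := by
  have : Fact (Nat.Prime 2) := ⟨Nat.prime_two⟩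
  have : Fact (Nat.Prime 3) := ⟨Nat.prime_three⟩
  have hK := klein_of hV hV2
  have h3A : 3 ∣ Nat.card A := by rcases hA with h | h <;> rw [h] <;> norm_num
  obtain ⟨T, hTn, hCT, hTs, hVT, hsup⟩ := exists_simple hsol hmax hcore hK hC.le hN
    (by rcases hA with h | h <;> rw [h] <;> norm_num) h3A
  -- the four-group in `T`
  have hK' : IsKleinFour (V.subgroupOf T) := by
    apply klein_of
    · rw [Nat.card_congr (subgroupOfEquivOfLe hVT).toEquiv, hV]
    · intro x hx
      exact Subtype.ext (hV2 x hx)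
  have hC' : centralizer (V.subgroupOf T : Set T) ≤ V.subgroupOf T := by
    intro g hg
    rw [mem_subgroupOf]
    apply hC.le
    rw [mem_centralizer_iff]
    intro v hv
    exact congrArg Subtype.val (mem_centralizer_iff.1 hg ⟨v, hVT hv⟩ hv)
  rcases klass hK' hC' with ⟨F, i1, i2, -, -, h⟩ | ⟨⟨e⟩⟩ | ⟨h16, h⟩
  · exact Or.inl ⟨T, hTn, hCT, F, i1, i2, h⟩
  · right
    rcases card_alt7 hCT e with h | h <;> rw [h] <;> simp
  · right
    -- a subgroup of order 8 of `T` normalising `V`
    obtain ⟨K, hKc, hVK⟩ := Sylow.exists_subgroup_card_pow_succ (p := 2) (n := 2) (G := T)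
      (Dvd.dvd.trans (by norm_num) h16) (H := V.subgroupOf T) (by rw [hK'.card_four]; norm_num)
    have hKc' : Nat.card K = 8 := hKc
    have hKN : K ≤ normalizer (V.subgroupOf T : Set T) :=
      le_normalizer_of_card hVK (by rw [hKc', hK'.card_four])
    set P : Subgroup G := K.map T.subtype with hP
    have hPT : P ≤ T := map_subtype_le K
    have hPc : Nat.card P = 8 := by
      rw [hP, ← hKc']
      exact (Nat.card_congr (K.equivMapOfInjective T.subtype T.subtype_injective).toEquiv).symm
    have hVP : V ≤ P := by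
      intro v hv
      exact ⟨⟨v, hVT hv⟩, hVK hv, rfl⟩
    have hPA : P ≤ A := by
      rw [← hN]
      exact le_normalizer_of_card hVP (by rw [hPc, hV])
    have h8 : 8 ∣ Nat.card (A ⊓ T : Subgroup G) := by
      rw [← hPc]; exact card_dvd_of_le (le_inf hPA hPT)
    have hA24 : Nat.card A = 24 := by
      rcases hA with h | h
      · exfalso
        have h9 := h8.trans (card_dvd_of_le (inf_le_left : A ⊓ T ≤ A))
        rw [h] at h9
        norm_num at h9
      · exact h
    have h24 : Nat.card (A ⊓ T : Subgroup G) ∣ 24 := by rw [← hA24]; exact card_dvd_of_le inf_le_left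
    obtain ⟨a, ha⟩ := exists_prime_orderOf_dvd_card' (G := A) 3 h3A
    have ha3 : (a : G) ^ 3 = 1 := by
      have := pow_orderOf_eq_one a
      rw [ha] at this
      exact congrArg Subtype.val this
    have ha1 : (a : G) ≠ 1 := by
      intro h
      have : a = 1 := Subtype.ext h
      rw [this, orderOf_one] at ha
      norm_num at ha
    have haN : (a : G) ∈ normalizer (V : Set G) := by rw [hN]; exact a.2
    have hAT : A ≤ T := by
      obtain ⟨k, hk⟩ := h8
      have hk' : k = 1 ∨ k = 3 := by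
        rw [hk] at h24
        have : k ∣ 3 := Nat.dvd_of_mul_dvd_mul_left (by norm_num : 0 < 8) h24
        exact (Nat.dvd_prime Nat.prime_three).1 this
      rcases hk' with rfl | rfl
      · exfalso
        have hQ2 : IsPGroup 2 (A ⊓ T : Subgroup G) := IsPGroup.of_card (n := 3) (by rw [hk]; norm_num)
        have hQN : A ⊓ T ≤ normalizer (V : Set G) := by rw [hN]; exact inf_le_left
        obtain ⟨x, hxV, hx1, hx⟩ := exists_fix hQN hQ2 (by rw [hV]; norm_num)
        have hQV : A ⊓ T ≤ V := by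
          intro q hq
          apply hC.le
          rw [mem_centralizer_iff]
          intro v hv
          by_cases hv1 : v = 1
          · rw [hv1, one_mul, mul_one]
          obtain ⟨n, hn⟩ := trans_of_three hK hC.le ha3 ha1 haN hxV hv hx1 hv1
          set b : G := (a : G) ^ n with hb
          have hbA : b ∈ A := pow_mem a.2 n
          have hq' : b⁻¹ * q * b ∈ A ⊓ T := by
            refine ⟨A.mul_mem (A.mul_mem (A.inv_mem hbA) hq.1) hbA, ?_⟩
            have := hTn.conj_mem q hq.2 b⁻¹
            rwa [inv_inv] at this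
          have h1 := hx _ hq'
          rw [← hn]
          calc b * x * b⁻¹ * q = b * (x * (b⁻¹ * q * b)) * b⁻¹ := by group
            _ = b * ((b⁻¹ * q * b) * x) * b⁻¹ := by rw [h1]
            _ = q * (b * x * b⁻¹) := by group
        have h1 := card_le_of_le hQV
        rw [hk, hV] at h1
        norm_num at h1
      · have h1 : A ⊓ T = A := eq_of_le_of_card_ge inf_le_left (by rw [hk, hA24])
        exact inf_eq_left.1 h1
    have htop : T = ⊤ := by rw [← hsup]; exact (sup_eq_left.2 hAT).symm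
    have e0 : T ≃* G := (MulEquiv.subgroupCongr htop).trans topEquiv
    rcases h with ⟨⟨e⟩⟩ | h
    · have h1 := H26.SolvPPrime.card_psl_three (F := ZMod 3) (ZMod.card 3)
      have h2 : Nat.card G = 5616 := by
        rw [← h1, ← Nat.card_congr e.toEquiv, Nat.card_congr e0.toEquiv]
      rw [h2]; simp
    · exfalso
      have h1 : IsM11 G := by
        have h2 : IsSimpleGroup G := by
          have := h.1
          have : Nontrivial G := e0.symm.toEquiv.nontrivial
          exact IsSimpleGroup.isSimpleGroup_of_surjective e0.toMonoidHom e0.surjective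
        exact ⟨h2, by rw [← Nat.card_congr e0.toEquiv]; exact h.2⟩
      exact false_of_max h1 hK hN.ge hmax hA24

end Cfsg.Agent.H219.FourCase
end
end

-- part: H5/Four/Case144
section
prune_inst 0x10000000000001000001c028200000000080000000000020480080000000020800000001000000400300000000000000000000000000000011800800000000000000000000006000000000000000000000000000000000000000000000000000
set_option linter.all false
open scoped Cfsg.Agent.FastGrp

-- part: H5/Four/List
section
/-!
# Simple groups with a fours group `V` such that `8 ∤ |C(V)|` (helper5)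
-/

set_option autoImplicit false

namespace Cfsg.Agent.H5.Four

open Subgroup Cfsg
open scoped commutatorElement

universe u

section TwoGroup

variable {S : Type*} [Group S] [Finite S]

/-- a 2-group with a fours group `V`, `C(V) = V` -/
theorem maxclass (hS : IsPGroup 2 S) {V : Subgroup S} (hV : Nat.card V = 4) (hV2 : ∀ x ∈ V, x * x = 1)
    (hC : centralizer (V : Set S) ≤ V) :
    (∃ m : ℕ, 2 ≤ m ∧ Nonempty (S ≃* DihedralGroup m)) ∨ IsQuasiDihedral S := by
  have : Fact (Nat.Prime 2) := ⟨Nat.prime_two⟩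
  have hVc : ∀ a ∈ V, ∀ b ∈ V, a * b = b * a := by
    intro a ha b hb
    have h1 := hV2 _ (V.mul_mem ha hb)
    have h2 := hV2 a ha
    have h3 := hV2 b hb
    calc a * b = a * (a * b * (a * b)) * b := by rw [h1]; group
      _ = (a * a) * (b * a) * (b * b) := by group
      _ = b * a := by rw [h2, h3]; group
  by_cases hSV : V = ⊤
  · left
    have hc : Nat.card S = 4 := by rw [← hV, hSV, card_top]
    refine ⟨2, le_rfl, ?_⟩
    have h1 : IsKleinFour S := by
      refine ⟨hc, ?_⟩
      have hexp : Monoid.exponent S ∣ 2 := by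
        rw [Monoid.exponent_dvd_iff_forall_pow_eq_one]
        intro g
        rw [pow_two]
        exact hV2 g (hSV ▸ mem_top g)
      rcases (Nat.dvd_prime Nat.prime_two).1 hexp with h | h
      · exfalso
        have h2 : Subsingleton S := Monoid.exp_eq_one_iff.1 h
        have := Nat.card_of_subsingleton (1 : S)
        omega
      · exact h
    exact IsKleinFour.nonempty_mulEquiv
  · have hZV : center S ≤ V := (center_le_centralizer _).trans hC
    have hnt : Nontrivial S := by
      by_contra hcon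
      rw [not_nontrivial_iff_subsingleton] at hcon
      have h1 := Nat.card_of_subsingleton (1 : V)
      omega
    have hZ1 : center S ≠ ⊥ := by
      have := hS.bot_lt_center
      exact this.ne'
    have hVZ : ¬ V ≤ center S := by
      intro h
      apply hSV
      rw [eq_top_iff]
      intro s _
      apply hC
      rw [mem_centralizer_iff]
      intro v hv
      exact (mem_center_iff.1 (h hv) s).symm
    obtain ⟨x, hxV, hxZ⟩ := SetLike.not_le_iff_exists.1 hVZ
    obtain ⟨⟨z, hz⟩, hz1⟩ := ne_bot_iff_exists_ne_one.1 hZ1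
    have hz1' : z ≠ 1 := fun h => hz1 (Subtype.ext h)
    have hx1 : x ≠ 1 := by rintro rfl; exact hxZ (one_mem _)
    have hxz : x ≠ z := by rintro rfl; exact hxZ hz
    have hzV := hZV hz
    have hall : ∀ v ∈ V, v = 1 ∨ v = x ∨ v = z ∨ v = x * z := by
      intro v hv
      by_contra hcon
      push Not at hcon
      obtain ⟨c1, c2, c3, c4⟩ := hcon
      have hxx := hV2 x hxV
      have h1 : ({1, x, z, x * z, v} : Set S) ⊆ (V : Set S) := by
        rintro w (rfl | rfl | rfl | rfl | rfl)
        · exact V.one_mem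
        · exact hxV
        · exact hzV
        · exact V.mul_mem hxV hzV
        · exact hv
      have h2 : ({1, x, z, x * z, v} : Set S).ncard = 5 := by
        have e1 : x * z ≠ x := by rwa [Ne, mul_eq_left]
        have e2 : x * z ≠ z := by rwa [Ne, mul_eq_right]
        have e3 : (1 : S) ≠ x * z := by
          intro h
          apply hxz
          have : x * (x * z) = x * 1 := by rw [← h]
          rw [← mul_assoc, hxx, one_mul, mul_one] at this
          exact this.symm
        rw [Set.ncard_insert_of_notMem, Set.ncard_insert_of_notMem, Set.ncard_insert_of_notMem, Set.ncard_pair c4.symm]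
        · rintro (h | h)
          · exact e2 h.symm
          · exact c3 h.symm
        · rintro (h | h | h)
          · exact hxz h
          · exact e1 h.symm
          · exact c2 h.symm
        · rintro (h | h | h | h)
          · exact hx1 h.symm
          · exact hz1' h.symm
          · exact e3 h
          · exact c1 h.symm
      have h3 := Set.ncard_le_ncard h1 (Set.toFinite _)
      have h4 : (V : Set S).ncard = 4 := by
        rw [← hV]; rfl
      omega
    have hcx : centralizer ({x} : Set S) = V := by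
      apply le_antisymm
      · intro s hs
        rw [mem_centralizer_singleton_iff] at hs
        apply hC
        rw [mem_centralizer_iff]
        intro v hv
        have hsz := mem_center_iff.1 hz s
        rcases hall v hv with rfl | rfl | rfl | rfl
        · rw [one_mul, mul_one]
        · exact hs.symm
        · exact hsz.symm
        · rw [mul_assoc, ← hsz, ← mul_assoc, ← hs, mul_assoc]
      · intro v hv
        rw [mem_centralizer_singleton_iff]
        exact hVc v hv x hxV
    have hox : orderOf x = 2 := orderOf_eq_prime (by rw [pow_two]; exact hV2 x hxV) hx1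
    exact TwoFusion.MaxClass.dihedral_or_qd_of_card_centralizer_eq_four hS x hox hxZ (by rw [hcx, hV])

end TwoGroup

section Simple

variable {T : Type u} [Group T] [Finite T] [hs : IsSimpleGroup T]

/-- the list -/
def MaxList (T : Type u) [Group T] : Prop :=
  (∃ (F : Type) (_ : Field F) (_ : Fintype F), Odd (Fintype.card F) ∧ Nonempty (T ≃* Matrix.ProjectiveSpecialLinearGroup (Fin 2) F)) ∨
    Nonempty (T ≃* alternatingGroup (Fin 7)) ∨
    (∃ (F : Type) (_ : Field F) (_ : Fintype F), Fintype.card F % 4 = 3 ∧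
      Nonempty (T ≃* Matrix.ProjectiveSpecialLinearGroup (Fin 3) F)) ∨
    (∃ (F : Type) (_ : Field F) (_ : Fintype F) (q : ℕ), Fintype.card F = q ^ 2 ∧ q % 4 = 1 ∧ Nonempty (T ≃* PSU 3 F q)) ∨
    IsM11 T

theorem maxList (hna : ∃ a b : T, a * b ≠ b * a) {V : Subgroup T} (hV : Nat.card V = 4)
    (hV2 : ∀ x ∈ V, x * x = 1) (hC : ¬ 8 ∣ Nat.card (centralizer (V : Set T))) : MaxList T := by
  have : Fact (Nat.Prime 2) := ⟨Nat.prime_two⟩
  have hVp : IsPGroup 2 V := IsPGroup.of_card (n := 2) (by rw [hV]; norm_num)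
  obtain ⟨S, hVS⟩ := hVp.exists_le_sylow
  -- the fours group in `S`
  have hV' : Nat.card (V.subgroupOf (S : Subgroup T)) = 4 := by
    rw [Nat.card_congr (subgroupOfEquivOfLe hVS).toEquiv, hV]
  have hV2' : ∀ x ∈ V.subgroupOf (S : Subgroup T), x * x = 1 := fun x hx => Subtype.ext (hV2 x (mem_subgroupOf.1 hx))
  have hVc : ∀ a ∈ V, ∀ b ∈ V, a * b = b * a := by
    intro a ha b hb
    have h1 := hV2 _ (V.mul_mem ha hb)
    have h2 := hV2 a ha
    have h3 := hV2 b hb
    calc a * b = a * (a * b * (a * b)) * b := by rw [h1]; group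
      _ = (a * a) * (b * a) * (b * b) := by group
      _ = b * a := by rw [h2, h3]; group
  have hC' : centralizer ((V.subgroupOf (S : Subgroup T) : Subgroup (S : Subgroup T)) : Set (S : Subgroup T)) ≤ V.subgroupOf (S : Subgroup T) := by
    set D : Subgroup T := (S : Subgroup T) ⊓ centralizer (V : Set T) with hD
    have hVD : V ≤ D := le_inf hVS fun a ha => mem_centralizer_iff.2 fun b hb => hVc b hb a ha
    have hDV : D = V := by
      have hDp : IsPGroup 2 D := S.2.to_le inf_le_left
      obtain ⟨k, hk⟩ := IsPGroup.iff_card.1 hDp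
      have h1 : Nat.card V ∣ Nat.card D := card_dvd_of_le hVD
      have h2 : Nat.card D ∣ Nat.card (centralizer (V : Set T)) := card_dvd_of_le inf_le_right
      have hk2 : k ≤ 2 := by
        by_contra hcon
        apply hC
        refine Dvd.dvd.trans ?_ h2
        rw [hk]
        exact pow_dvd_pow 2 (show 3 ≤ k by omega)
      apply (eq_of_le_of_card_ge hVD ?_).symm
      rw [hk, hV]
      calc 2 ^ k ≤ 2 ^ 2 := Nat.pow_le_pow_right (by norm_num) hk2
        _ = 4 := by norm_num
    intro s hs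
    rw [mem_subgroupOf, ← hDV]
    refine ⟨s.2, mem_centralizer_iff.2 fun v hv => ?_⟩
    exact congrArg Subtype.val (mem_centralizer_iff.1 hs ⟨v, hVS hv⟩ (mem_subgroupOf.2 hv))
  have hna' : ¬ IsMulCommutative T := by
    intro h
    obtain ⟨a, b, hab⟩ := hna
    exact hab (h.is_comm.comm a b)
  have hperf : Group.IsPerfect T := by
    rw [Group.isPerfect_def]
    have hn : (commutator T).Normal := inferInstance
    rcases hn.eq_bot_or_eq_top with h | h
    · exfalso
      apply hna'
      refine ⟨⟨fun a b => ?_⟩⟩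
      have h3 : ⁅a, b⁆ ∈ commutator T := commutator_mem_commutator (mem_top a) (mem_top b)
      rw [h, mem_bot, commutatorElement_eq_one_iff_mul_comm] at h3
      exact h3
    · exact h
  rcases maxclass S.2 hV' hV2' hC' with ⟨m, hm, hSm⟩ | hqd
  · have hO : oddCore T = ⊥ := by
      have hn : (oddCore T).Normal := Lib.Cores.pPrimeCore_normal 2
      rcases hn.eq_bot_or_eq_top with h | h
      · exact h
      · exfalso
        have hc : (Nat.card (oddCore T)).Coprime 2 := Lib.Cores.pPrimeCore_coprime (G := T) 2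
        rw [h, card_top] at hc
        have h1 : 4 ∣ Nat.card T := by rw [← hV]; exact card_subgroup_dvd_card V
        have h2 : ¬ 2 ∣ Nat.card T := by
          intro h2
          have := Nat.Coprime.eq_one_of_dvd hc.symm h2
          omega
        exact h2 (Dvd.dvd.trans (by norm_num) h1)
    let e0 : T ⧸ oddCore T ≃* T := (QuotientGroup.quotientMulEquivOfEq hO).trans QuotientGroup.quotientBot
    rcases S0483.result S m hm hSm with ⟨F, _, _, hF, h3, ⟨e⟩⟩ | ⟨⟨e⟩⟩
    · exact Or.inl ⟨F, _, _, hF, ⟨e0.symm.trans e⟩⟩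
    · exact Or.inr (Or.inl ⟨e0.symm.trans e⟩)
  · rcases S0507.result S hqd with h | h | h
    · exact Or.inr (Or.inr (Or.inl h))
    · exact Or.inr (Or.inr (Or.inr (Or.inl h)))
    · exact Or.inr (Or.inr (Or.inr (Or.inr h)))

end Simple

end Cfsg.Agent.H5.Four
end

-- part: H5/Four/Red
section
/-!
# Reduction to an almost simple group (helper5)
-/

set_option autoImplicit false
set_option linter.unusedSectionVars false

namespace Cfsg.Agent.H5.Four

open Subgroup Cfsg
open Cfsg.Agent.Lib.MinNormalNonabelian (minSet nonabelian_structure)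
open scoped commutatorElement Pointwise

universe u

/-- `4 ∣ |X|`, `W` an abelian 2-subgroup: `4 ∣ |C(W)|` -/
theorem four_dvd_centralizer {X : Type*} [Group X] [Finite X] (h4 : 4 ∣ Nat.card X) {W : Subgroup X} (hW : IsPGroup 2 W)
    (hWc : ∀ a ∈ W, ∀ b ∈ W, a * b = b * a) : 4 ∣ Nat.card (centralizer (W : Set X)) := by
  have : Fact (Nat.Prime 2) := ⟨Nat.prime_two⟩
  obtain ⟨P, hWP⟩ := hW.exists_le_sylow
  set D : Subgroup X := (P : Subgroup X) ⊓ centralizer (W : Set X) with hD
  have hDp : IsPGroup 2 D := P.2.to_le inf_le_left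
  obtain ⟨k, hk⟩ := IsPGroup.iff_card.1 hDp
  have hDd : Nat.card D ∣ Nat.card (centralizer (W : Set X)) := card_dvd_of_le inf_le_right
  by_cases hk2 : 2 ≤ k
  · refine Dvd.dvd.trans ?_ hDd
    rw [hk]
    exact pow_dvd_pow 2 hk2
  exfalso
  have hP4 : 2 ^ 2 ∣ Nat.card P := P.pow_dvd_card_of_pow_dvd_card (by simpa only [_root_.Nat.reducePow] using h4)
  have hPnt : Nontrivial P := by
    rw [← Finite.one_lt_card_iff_nontrivial]
    have := Nat.le_of_dvd Nat.card_pos hP4
    omega
  have hZ : center P ≠ ⊥ := (P.2.bot_lt_center).ne'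
  have hZD : (center P).map (P : Subgroup X).subtype ≤ D := by
    rintro _ ⟨z, hz, rfl⟩
    refine ⟨z.2, mem_centralizer_iff.2 fun w hw => ?_⟩
    exact congrArg Subtype.val (mem_center_iff.1 hz ⟨w, hWP hw⟩)
  have hZc : 1 < Nat.card ((center P).map (P : Subgroup X).subtype) := by
    rw [one_lt_card_iff_ne_bot, Ne, Subgroup.map_eq_bot_iff_of_injective _ (P : Subgroup X).subtype_injective]
    exact hZ
  have hDc : Nat.card D ≤ 2 := by
    rw [hk]
    calc 2 ^ k ≤ 2 ^ 1 := Nat.pow_le_pow_right (by norm_num) (by omega)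
      _ = 2 := by norm_num
  have hZeq : (center P).map (P : Subgroup X).subtype = D :=
    eq_of_le_of_card_ge hZD (by omega)
  have hWD : W ≤ D := le_inf hWP fun a ha => mem_centralizer_iff.2 fun b hb => hWc b hb a ha
  have hPD : (P : Subgroup X) ≤ D := by
    refine le_inf le_rfl fun x hx => mem_centralizer_iff.2 fun w hw => ?_
    have h1 := hWD hw
    rw [← hZeq] at h1
    obtain ⟨z, hz, rfl⟩ := h1
    exact congrArg Subtype.val (mem_center_iff.1 hz ⟨x, hx⟩).symm
  have h5 := card_le_of_le hPD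
  have h6 := Nat.le_of_dvd Nat.card_pos hP4
  have h7 : Nat.card P = Nat.card (P : Subgroup X) := rfl
  omega

section

variable {G : Type u} [Group G] [Finite G]

/-- `T` normal in `N`, centreless; `V ≤ T C(T)` an abelian 2-group: `4 ∣ |C_T(V)|` -/
theorem four_dvd_inf {T V : Subgroup G} (hT4 : 4 ∣ Nat.card T) (hZ : ∀ z ∈ T, (∀ t ∈ T, Commute z t) → z = 1)
    (hV : IsPGroup 2 V) (hVc : ∀ a ∈ V, ∀ b ∈ V, a * b = b * a)
    (hVT : ∀ v ∈ V, ∃ t ∈ T, ∃ m ∈ centralizer (T : Set G), v = t * m) :
    4 ∣ Nat.card (T ⊓ centralizer (V : Set G) : Subgroup G) := by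
  have hcomm : ∀ t ∈ T, ∀ m ∈ centralizer (T : Set G), t * m = m * t := fun t ht m hm => mem_centralizer_iff.1 hm t ht
  have huniq : ∀ t ∈ T, t ∈ centralizer (T : Set G) → t = 1 := fun t ht hc =>
    hZ t ht fun s hs => (mem_centralizer_iff.1 hc s hs).symm
  let W : Subgroup T :=
    { carrier := {t | ∃ m ∈ centralizer (T : Set G), (t : G) * m ∈ V}
      mul_mem' := by
        rintro a b ⟨m, hm, ha⟩ ⟨n, hn, hb⟩
        refine ⟨m * n, mul_mem hm hn, ?_⟩
        have h1 : ((a * b : T) : G) * (m * n) = (a : G) * m * (b * n) := by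
          have h2 := hcomm b b.2 m hm
          calc ((a * b : T) : G) * (m * n) = (a : G) * (b * m) * n := by rw [coe_mul]; group
            _ = (a : G) * (m * b) * n := by rw [h2]
            _ = (a : G) * m * (b * n) := by group
        rw [h1]
        exact V.mul_mem ha hb
      one_mem' := ⟨1, one_mem _, by simp⟩
      inv_mem' := by
        rintro a ⟨m, hm, ha⟩
        refine ⟨m⁻¹, inv_mem hm, ?_⟩
        have h1 : ((a⁻¹ : T) : G) * m⁻¹ = ((a : G) * m)⁻¹ := by
          rw [hcomm a a.2 m hm, mul_inv_rev]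
          rfl
        rw [h1]
        exact V.inv_mem ha }
  have hWmem : ∀ t : T, t ∈ W ↔ ∃ m ∈ centralizer (T : Set G), (t : G) * m ∈ V := fun t => Iff.rfl
  have hWp : IsPGroup 2 W := by
    rintro ⟨t, m, hm, htm⟩
    obtain ⟨k, hk⟩ := hV ⟨_, htm⟩
    refine ⟨k, ?_⟩
    apply Subtype.ext
    apply Subtype.ext
    change (t : G) ^ 2 ^ k = 1
    have h1 : ((t : G) * m) ^ 2 ^ k = 1 := congrArg Subtype.val hk
    have hc : Commute (t : G) m := hcomm t t.2 m hm
    rw [hc.mul_pow] at h1
    apply huniq _ (T.pow_mem t.2 _)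
    rw [eq_inv_of_mul_eq_one_left h1]
    exact inv_mem (pow_mem hm _)
  have hWc : ∀ a ∈ W, ∀ b ∈ W, a * b = b * a := by
    rintro a ⟨m, hm, ha⟩ b ⟨n, hn, hb⟩
    have h1 := hVc _ ha _ hb
    have e1 : (a : G) * m * (b * n) = (a * b) * (m * n) := by
      have h2 := hcomm b b.2 m hm
      calc (a : G) * m * (b * n) = (a : G) * (m * b) * n := by group
        _ = (a : G) * (b * m) * n := by rw [h2]
        _ = (a * b) * (m * n) := by group
    have e2 : (b : G) * n * (a * m) = (b * a) * (n * m) := by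
      have h2 := hcomm a a.2 n hn
      calc (b : G) * n * (a * m) = (b : G) * (n * a) * m := by group
        _ = (b : G) * (a * n) * m := by rw [h2]
        _ = (b * a) * (n * m) := by group
    rw [e1, e2] at h1
    have h3 : ((b : G) * a)⁻¹ * (a * b) = (n * m) * (m * n)⁻¹ := by
      rw [inv_mul_eq_iff_eq_mul, ← mul_assoc, ← h1]
      group
    have h4 : ((b : G) * a)⁻¹ * (a * b) = 1 := by
      apply huniq
      · exact T.mul_mem (T.inv_mem (T.mul_mem b.2 a.2)) (T.mul_mem a.2 b.2)
      · rw [h3]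
        exact mul_mem (mul_mem hn hm) (inv_mem (mul_mem hm hn))
    apply Subtype.ext
    rw [inv_mul_eq_one] at h4
    exact h4.symm
  have h1 := four_dvd_centralizer hT4 hWp hWc
  have h2 : (centralizer (W : Set T)).map T.subtype ≤ T ⊓ centralizer (V : Set G) := by
    rintro _ ⟨x, hx, rfl⟩
    refine ⟨x.2, mem_centralizer_iff.2 fun v hv => ?_⟩
    obtain ⟨t, ht, m, hm, rfl⟩ := hVT v hv
    have h3 : (⟨t, ht⟩ : T) * x = x * ⟨t, ht⟩ := mem_centralizer_iff.1 hx ⟨t, ht⟩ ((hWmem _).2 ⟨m, hm, hv⟩)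
    have h3' : t * (x : G) = x * t := congrArg Subtype.val h3
    have h4 := hcomm x x.2 m hm
    change t * m * (x : G) = (x : G) * (t * m)
    calc t * m * (x : G) = t * (m * x) := by group
      _ = t * (x * m) := by rw [h4]
      _ = (t * x) * m := by group
      _ = (x * t) * m := by rw [h3']
      _ = (x : G) * (t * m) := by group
  have h3 : Nat.card ((centralizer (W : Set T)).map T.subtype) = Nat.card (centralizer (W : Set T)) :=
    card_map_of_injective T.subtype_injective
  exact (h3 ▸ h1).trans (card_dvd_of_le h2)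

theorem simple_of_sixteen {N V : Subgroup G} [N.Normal]
    (hmin : ∀ M : Subgroup G, M.Normal → M ≤ N → M = ⊥ ∨ M = N)
    (hna : ¬ ∀ x ∈ N, ∀ y ∈ N, Commute x y) (hV : IsPGroup 2 V) (hVc : ∀ a ∈ V, ∀ b ∈ V, a * b = b * a) (hVN : V ≤ N)
    (hC : ¬ 16 ∣ Nat.card (centralizer (V : Set G))) : IsSimpleGroup N := by
  obtain ⟨⟨T, hT⟩, hind, hsup, hsimp, hZ, -⟩ := nonabelian_structure N hmin hna
  by_cases hone : ∀ U ∈ minSet N, U = T
  · have h1 : N = T := by
      rw [← hsup]
      apply le_antisymm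
      · exact sSup_le fun U hU => (hone U hU).le
      · exact le_sSup hT
    rw [h1]
    exact hsimp T hT
  · exfalso
    push Not at hone
    obtain ⟨U, hU, hUT⟩ := hone
    have hdis : ∀ A ∈ minSet N, ∀ B ∈ minSet N, A ≠ B → ∀ a ∈ A, ∀ b ∈ B, Commute a b := fun A hA B hB hAB =>
      H219.FourSelf.commute_of_minSet hmin hna hA hB hAB
    have key : ∀ A ∈ minSet N, 4 ∣ Nat.card (A ⊓ centralizer (V : Set G) : Subgroup G) := by
      intro A hA
      refine four_dvd_inf ?_ (hZ A hA) hV hVc ?_
      · have := hsimp A hA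
        apply H219.FourSelf.even_of_simple
        by_contra hcon
        push Not at hcon
        obtain ⟨z, hz⟩ := exists_ne (1 : A)
        apply hz
        apply Subtype.ext
        apply hZ A hA z z.2
        intro s hs
        exact congrArg Subtype.val (hcon z ⟨s, hs⟩)
      · intro v hv
        have h1 : sSup (minSet N) ≤ A ⊔ centralizer (A : Set G) := by
          apply sSup_le
          intro B hB
          by_cases hBA : B = A
          · rw [hBA]; exact le_sup_left
          · refine le_trans ?_ le_sup_right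
            intro b hb
            exact mem_centralizer_iff.2 fun a ha => (hdis A hA B hB (Ne.symm hBA) a ha b hb).eq
        rw [hsup] at h1
        have h2 := h1 (hVN hv)
        have h3 : centralizer (A : Set G) ≤ normalizer (A : Set G) := centralizer_le_normalizer _
        rw [← SetLike.mem_coe, coe_mul_of_right_le_normalizer_left _ _ h3] at h2
        obtain ⟨t, ht, m, hm, h⟩ := h2
        exact ⟨t, ht, m, hm, h.symm⟩
    apply hC
    have hc := hdis T hT U hU (Ne.symm hUT)
    have hinf : ∀ a ∈ T, a ∈ U → a = 1 := fun a ha hb => hZ T hT a ha fun s hs => (hc s hs a hb).symm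
    let f : (T ⊓ centralizer (V : Set G) : Subgroup G) × (U ⊓ centralizer (V : Set G) : Subgroup G) →*
        centralizer (V : Set G) :=
      { toFun := fun x => ⟨x.1 * x.2, mul_mem x.1.2.2 x.2.2.2⟩
        map_one' := by ext; simp only [_root_.Prod.fst_one, _root_.OneMemClass.coe_one, _root_.Prod.snd_one, _root_.mul_one]
        map_mul' := by
          rintro ⟨⟨a, ha⟩, ⟨b, hb⟩⟩ ⟨⟨c, hc'⟩, ⟨d, hd⟩⟩
          apply Subtype.ext
          change a * c * (b * d) = a * b * (c * d)
          have h1 := (hc c hc'.1 b hb.1).eq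
          calc a * c * (b * d) = a * (c * b) * d := by group
            _ = a * (b * c) * d := by rw [h1]
            _ = a * b * (c * d) := by group }
    have hf : Function.Injective f := by
      rw [injective_iff_map_eq_one]
      rintro ⟨⟨a, ha⟩, ⟨b, hb⟩⟩ h
      have h1 : a * b = 1 := congrArg Subtype.val h
      have h2 : a = b⁻¹ := eq_inv_of_mul_eq_one_left h1
      have h3 : a = 1 := hinf a ha.1 (by rw [h2]; exact U.inv_mem hb.1)
      subst h3
      have h4 : b = 1 := by rwa [one_mul] at h1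
      subst h4
      rfl
    have h1 := card_dvd_of_injective f hf
    rw [Nat.card_prod] at h1
    exact (mul_dvd_mul (key T hT) (key U hU)).trans h1

/-- a solvable normal subgroup is trivial -/
theorem no_solvable (hsol : ¬ Group.IsSolvable G) {A : Subgroup G} (hmax : IsCoatom A) (hcore : A.normalCore = ⊥)
    (hAs : Group.IsSolvable A) {N : Subgroup G} [hN : N.Normal] (hNs : Group.IsSolvable N) : N = ⊥ := by
  by_contra hN1
  have hsup : N ⊔ A = ⊤ := by
    rcases hmax.le_iff.1 (le_sup_right : A ≤ N ⊔ A) with h1 | h1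
    · exact h1
    · exfalso
      apply hN1
      rw [eq_bot_iff, ← hcore]
      exact normal_le_normalCore.2 (le_sup_left.trans h1.le)
  apply hsol
  rw [Group.isSolvable_iff_subgroup_quotient N]
  refine ⟨hNs, ?_⟩
  have hsurj : Function.Surjective ((QuotientGroup.mk' N).comp A.subtype) := by
    intro q
    obtain ⟨g, rfl⟩ := QuotientGroup.mk'_surjective N q
    have hg : g ∈ N ⊔ A := by rw [hsup]; exact mem_top _
    rw [mem_sup_of_normal_left] at hg
    obtain ⟨n, hn, k, hk, rfl⟩ := hg
    refine ⟨⟨k, hk⟩, ?_⟩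
    rw [map_mul]
    have : QuotientGroup.mk' N n = 1 := (QuotientGroup.eq_one_iff n).2 hn
    rw [this, one_mul]
    rfl
  exact Group.isSolvable_of_surjective hsurj

/-- the minimal normal subgroup -/
theorem exists_min (hsol : ¬ Group.IsSolvable G) {A : Subgroup G} (hmax : IsCoatom A) (hcore : A.normalCore = ⊥)
    (hAs : Group.IsSolvable A) :
    ∃ T : Subgroup G, T.Normal ∧ (∀ M : Subgroup G, M.Normal → M ≤ T → M = ⊥ ∨ M = T) ∧
      (¬ ∀ x ∈ T, ∀ y ∈ T, Commute x y) ∧ centralizer (T : Set G) = ⊥ ∧ T ⊔ A = ⊤ := by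
  have hnt : Nontrivial G := by
    by_contra hcon
    rw [not_nontrivial_iff_subsingleton] at hcon
    exact hsol inferInstance
  obtain ⟨T, ⟨hTn, hT1⟩, hTmin⟩ := (Set.toFinite {N : Subgroup G | N.Normal ∧ N ≠ ⊥}).exists_minimal
    ⟨⊤, (inferInstance : (⊤ : Subgroup G).Normal), top_ne_bot⟩
  have hmin : ∀ M : Subgroup G, M.Normal → M ≤ T → M = ⊥ ∨ M = T := by
    intro M hM hMT
    by_cases hM1 : M = ⊥
    · exact Or.inl hM1
    · exact Or.inr (le_antisymm hMT (hTmin ⟨hM, hM1⟩ hMT))
  have hna : ¬ ∀ x ∈ T, ∀ y ∈ T, Commute x y := by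
    intro h
    apply hT1
    have : IsMulCommutative T := ⟨⟨fun a b => Subtype.ext (h a a.2 b b.2).eq⟩⟩
    exact no_solvable hsol hmax hcore hAs (Group.isSolvable_of_comm (fun a b => this.is_comm.comm a b))
  have hsup : T ⊔ A = ⊤ := by
    rcases hmax.le_iff.1 (le_sup_right : A ≤ T ⊔ A) with h1 | h1
    · exact h1
    · exfalso
      apply hT1
      rw [eq_bot_iff, ← hcore]
      exact normal_le_normalCore.2 (le_sup_left.trans h1.le)
  refine ⟨T, hTn, hmin, hna, ?_, hsup⟩
  -- the centralizer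
  have hCn : (centralizer (T : Set G)).Normal := inferInstance
  have hCT : centralizer (T : Set G) ⊓ T = ⊥ := by
    rcases hmin (centralizer (T : Set G) ⊓ T) inferInstance inf_le_right with h | h
    · exact h
    · exfalso
      apply hna
      intro x hx y hy
      have h6 : y ∈ centralizer (T : Set G) ⊓ T := by rw [h]; exact hy
      exact mem_centralizer_iff.1 h6.1 x hx
  refine no_solvable hsol hmax hcore hAs ?_
  -- `C(T)` embeds in `G / T`
  have hQs : Group.IsSolvable (G ⧸ T) := by
    have hsurj : Function.Surjective ((QuotientGroup.mk' T).comp A.subtype) := by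
      intro q
      obtain ⟨g, rfl⟩ := QuotientGroup.mk'_surjective T q
      have hg : g ∈ T ⊔ A := by rw [hsup]; exact mem_top _
      rw [mem_sup_of_normal_left] at hg
      obtain ⟨n, hn, k, hk, rfl⟩ := hg
      refine ⟨⟨k, hk⟩, ?_⟩
      rw [map_mul]
      have : QuotientGroup.mk' T n = 1 := (QuotientGroup.eq_one_iff n).2 hn
      rw [this, one_mul]
      rfl
    exact Group.isSolvable_of_surjective hsurj
  refine Group.isSolvable_of_isSolvable_injective (f := (QuotientGroup.mk' T).comp (centralizer (T : Set G)).subtype) ?_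
  rw [injective_iff_map_eq_one]
  intro x hx
  have h1 : (x : G) ∈ T := (QuotientGroup.eq_one_iff (x : G)).1 hx
  have h2 : (x : G) ∈ centralizer (T : Set G) ⊓ T := ⟨x.2, h1⟩
  rw [hCT, mem_bot] at h2
  exact Subtype.ext h2

/-- the index of a normal supplement -/
theorem card_mul_inf {T A : Subgroup G} [T.Normal] (hsup : T ⊔ A = ⊤) :
    Nat.card G * Nat.card (T ⊓ A : Subgroup G) = Nat.card T * Nat.card A := by
  have h1 : T.relIndex (T ⊔ A) = T.relIndex A := relIndex_sup_left A T
  rw [hsup, relIndex_top_right] at h1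
  have h2 := card_mul_index T
  have h3 := card_mul_index (T.subgroupOf A)
  have h4 : Nat.card (T.subgroupOf A) = Nat.card (T ⊓ A : Subgroup G) := by
    rw [← inf_subgroupOf_right, Nat.card_congr (subgroupOfEquivOfLe inf_le_right).toEquiv]
  have h5 : (T.subgroupOf A).index = T.index := h1.symm
  rw [h4, h5] at h3
  rw [← h2, ← h3]
  ring

end

end Cfsg.Agent.H5.Four
end

-- part: H500/Psl3Four
section
/-!
# Four-subgroups of `PSL(3, q)`, `q` odd (helper500, lemma T1 of S3574)

* `exists_basis2` : two commuting matrices with square 1 have a common eigenbasis;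
* `exists_conj2` : a four-subgroup of `SL(3, F)` is conjugate to `sg` (diagonal matrices with entries `±1`, det 1);
* `psl3_four` : `|C(V)| (3, q - 1) = (q - 1) ^ 2`, `|N(V)| = 6 |C(V)|` for the four-subgroups `V` of `PSL(3, q)`.
-/

set_option autoImplicit false

namespace Cfsg.Agent.H500.Psl3Four

open Matrix Subgroup

variable {F : Type*} [Field F]

/-- two commuting matrices with square one have a common eigenbasis -/
theorem exists_basis2 (h2 : (2 : F) ≠ 0) {A B : Matrix (Fin 3) (Fin 3) F} (hA : A * A = 1) (hB : B * B = 1)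
    (hAB : A * B = B * A) :
    ∃ b : Module.Basis (Fin 3) F (Fin 3 → F), ∀ i, (A *ᵥ b i = b i ∨ A *ᵥ b i = - b i) ∧
      (B *ᵥ b i = b i ∨ B *ᵥ b i = - b i) := by
  set S : Set (Fin 3 → F) := {v | (A *ᵥ v = v ∨ A *ᵥ v = -v) ∧ (B *ᵥ v = v ∨ B *ᵥ v = -v)} with hS
  have key : ∀ v : Fin 3 → F, (B *ᵥ v = v ∨ B *ᵥ v = -v) → v ∈ Submodule.span F S := by
    intro v hv
    have hBA : ∀ w : Fin 3 → F, B *ᵥ (A *ᵥ w) = A *ᵥ (B *ᵥ w) := by
      intro w
      rw [Matrix.mulVec_mulVec, Matrix.mulVec_mulVec, hAB]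
    have h1 : v + A *ᵥ v ∈ S := by
      refine ⟨Or.inl ?_, ?_⟩
      · rw [Matrix.mulVec_add, Matrix.mulVec_mulVec, hA, Matrix.one_mulVec, add_comm]
      · rcases hv with hv | hv
        · left
          rw [Matrix.mulVec_add, hBA, hv]
        · right
          rw [Matrix.mulVec_add, hBA, hv, Matrix.mulVec_neg, neg_add]
    have h3 : v - A *ᵥ v ∈ S := by
      refine ⟨Or.inr ?_, ?_⟩
      · rw [Matrix.mulVec_sub, Matrix.mulVec_mulVec, hA, Matrix.one_mulVec, neg_sub]
      · rcases hv with hv | hv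
        · left
          rw [Matrix.mulVec_sub, hBA, hv]
        · right
          rw [Matrix.mulVec_sub, hBA, hv, Matrix.mulVec_neg, neg_sub, sub_neg_eq_add, add_comm, ← sub_eq_add_neg]
    have h4 : v = (2 : F)⁻¹ • ((v + A *ᵥ v) + (v - A *ᵥ v)) := by
      have : (v + A *ᵥ v) + (v - A *ᵥ v) = (2 : F) • v := by
        rw [two_smul]; abel
      rw [this, smul_smul, inv_mul_cancel₀ h2, one_smul]
    rw [h4]
    exact Submodule.smul_mem _ _ (Submodule.add_mem _ (Submodule.subset_span h1)
      (Submodule.subset_span h3))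
  have hspan : ⊤ ≤ Submodule.span F S := by
    intro v _
    have h1 := key (v + B *ᵥ v) (Or.inl (by
      rw [Matrix.mulVec_add, Matrix.mulVec_mulVec, hB, Matrix.one_mulVec, add_comm]))
    have h3 := key (v - B *ᵥ v) (Or.inr (by
      rw [Matrix.mulVec_sub, Matrix.mulVec_mulVec, hB, Matrix.one_mulVec, neg_sub]))
    have h4 : v = (2 : F)⁻¹ • ((v + B *ᵥ v) + (v - B *ᵥ v)) := by
      have : (v + B *ᵥ v) + (v - B *ᵥ v) = (2 : F) • v := by
        rw [two_smul]; abel
      rw [this, smul_smul, inv_mul_cancel₀ h2, one_smul]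
    rw [h4]
    exact Submodule.smul_mem _ _ (Submodule.add_mem _ h1 h3)
  let b₀ := Module.Basis.ofSpan hspan
  have hsub := Module.Basis.ofSpan_subset hspan
  have hfin : Finite ((linearIndepOn_empty F id).extend (Set.empty_subset S)) :=
    Module.Finite.finite_basis b₀
  have := Fintype.ofFinite ((linearIndepOn_empty F id).extend (Set.empty_subset S))
  have hcard : Fintype.card ((linearIndepOn_empty F id).extend (Set.empty_subset S)) = 3 := by
    rw [← Module.finrank_eq_card_basis b₀, Module.finrank_fin_fun]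
  let e := Fintype.equivFinOfCardEq hcard
  refine ⟨b₀.reindex e, fun i => ?_⟩
  rw [Module.Basis.reindex_apply]
  exact hsub (Set.mem_range_self _)

local notation "SL3" => Matrix.SpecialLinearGroup (Fin 3)

/-- the diagonal matrices with entries `±1` and determinant 1 -/
def sg (F : Type*) [Field F] : Subgroup (SL3 F) where
  carrier := {X | ∃ d : Fin 3 → F, (∀ i, d i = 1 ∨ d i = -1) ∧ X.1 = diagonal d}
  one_mem' := ⟨fun _ => 1, fun _ => Or.inl rfl, by rw [diagonal_one]; rfl⟩
  mul_mem' := by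
    rintro X Y ⟨d, hd, hX⟩ ⟨e, he, hY⟩
    refine ⟨fun i => d i * e i, fun i => ?_, ?_⟩
    · show d i * e i = 1 ∨ d i * e i = -1
      rcases hd i with h | h <;> rcases he i with h' | h' <;> rw [h, h'] <;> simp
    · show (X.1 * Y.1 : Matrix (Fin 3) (Fin 3) F) = _
      rw [hX, hY, diagonal_mul_diagonal]
  inv_mem' := by
    rintro X ⟨d, hd, hX⟩
    refine ⟨d, hd, ?_⟩
    have h1 : X * X = 1 := by
      apply Subtype.ext
      show (X.1 * X.1 : Matrix (Fin 3) (Fin 3) F) = (1 : Matrix (Fin 3) (Fin 3) F)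
      rw [hX, diagonal_mul_diagonal, ← diagonal_one]
      congr 1
      funext i
      rcases hd i with h | h <;> rw [h] <;> simp
    rw [inv_eq_of_mul_eq_one_left h1, hX]

/-- the diagonal matrix with entry `1` at `i` and `-1` elsewhere -/
def sd (F : Type*) [Field F] (i : Fin 3) : SL3 F :=
  ⟨diagonal (fun j => if j = i then 1 else -1), by
    rw [det_diagonal, Fin.prod_univ_three]
    (revert i; simp only [_root_.Fin.forall_fin_succ, Fin.isValue, _root_.mul_ite, _root_.mul_one, _root_.mul_neg, Fin.reduceEq, ↓reduceIte, _root_.one_ne_zero, _root_.neg_neg, _root_.Fin.succ_zero_eq_one, _root_.zero_ne_one, _root_.Fin.succ_one_eq_two, _root_.IsEmpty.forall_iff, _root_.and_self])⟩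

theorem sd_mem (i : Fin 3) : sd F i ∈ sg F :=
  ⟨_, fun j => by by_cases h : j = i <;> simp [h], rfl⟩

theorem sg_eq (h2 : (2 : F) ≠ 0) {X : SL3 F} (hX : X ∈ sg F) : X = 1 ∨ ∃ i, X = sd F i := by
  obtain ⟨d, hd, hX⟩ := hX
  have hone : (1 : F) ≠ -1 := by
    intro h
    apply h2
    linear_combination h
  have hdet := X.2
  rw [hX, det_diagonal, Fin.prod_univ_three] at hdet
  have hsd : ∀ i : Fin 3, (∀ j, d j = if j = i then 1 else -1) → X = sd F i := by
    intro i hi
    apply Subtype.ext
    rw [hX]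
    show diagonal d = diagonal _
    congr 1
    funext j
    exact hi j
  rcases hd 0 with h0 | h0 <;> rcases hd 1 with h1 | h1 <;> rcases hd 2 with h3 | h3 <;> rw [h0, h1, h3] at hdet
  · left
    apply Subtype.ext
    show X.1 = (1 : Matrix (Fin 3) (Fin 3) F)
    rw [hX, ← diagonal_one]
    congr 1
    funext i
    fin_cases i
    · exact h0
    · exact h1
    · exact h3
  · exact absurd (by linear_combination -hdet) hone
  · exact absurd (by linear_combination -hdet) hone
  · right
    refine ⟨0, hsd 0 fun j => ?_⟩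
    fin_cases j <;> simp [h0, h1, h3]
  · exact absurd (by linear_combination -hdet) hone
  · right
    refine ⟨1, hsd 1 fun j => ?_⟩
    fin_cases j <;> simp [h0, h1, h3]
  · right
    refine ⟨2, hsd 2 fun j => ?_⟩
    fin_cases j <;> simp [h0, h1, h3]
  · exact absurd (by linear_combination -hdet) hone

theorem sd_ne_one (h2 : (2 : F) ≠ 0) (i : Fin 3) : sd F i ≠ 1 := by
  have hone : (1 : F) ≠ -1 := by
    intro h
    apply h2
    linear_combination h
  intro h
  have h1 := congrArg (fun M : SL3 F => M.1 (i + 1) (i + 1)) h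
  have h3 : i + 1 ≠ i := by fin_cases i <;> decide
  simp [sd, h3] at h1
  exact hone h1.symm

theorem sd_injective (h2 : (2 : F) ≠ 0) : Function.Injective (sd F) := by
  have hone : (1 : F) ≠ -1 := by
    intro h
    apply h2
    linear_combination h
  intro i j hij
  by_contra hne
  have h1 := congrArg (fun M : SL3 F => M.1 i i) hij
  simp [sd, hne] at h1
  exact hone h1

theorem card_sg (h2 : (2 : F) ≠ 0) : Nat.card (sg F) = 4 := by
  have e : Option (Fin 3) ≃ sg F := by
    refine Equiv.ofBijective (fun o => match o with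
      | none => ⟨1, one_mem _⟩
      | some i => ⟨sd F i, sd_mem i⟩) ⟨?_, ?_⟩
    · rintro (_ | i) (_ | j) h
      · rfl
      · exact absurd (congrArg Subtype.val h).symm (sd_ne_one h2 j)
      · exact absurd (congrArg Subtype.val h) (sd_ne_one h2 i)
      · exact congrArg some (sd_injective h2 (congrArg Subtype.val h))
    · rintro ⟨X, hX⟩
      rcases sg_eq h2 hX with rfl | ⟨i, rfl⟩
      · exact ⟨none, rfl⟩
      · exact ⟨some i, rfl⟩
  rw [← Nat.card_congr e, Nat.card_eq_fintype_card]
  rfl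

/-- two commuting elements of `SL(3, F)` with square 1 are simultaneously conjugate into `sg` -/
theorem exists_conj2 (h2 : (2 : F) ≠ 0) {A B : SL3 F} (hA : A * A = 1) (hB : B * B = 1) (hAB : A * B = B * A) :
    ∃ P : SL3 F, P⁻¹ * A * P ∈ sg F ∧ P⁻¹ * B * P ∈ sg F := by
  obtain ⟨b, hb⟩ := exists_basis2 h2 (congrArg Subtype.val hA) (congrArg Subtype.val hB) (congrArg Subtype.val hAB)
  set M : Matrix (Fin 3) (Fin 3) F := Matrix.of (fun i j => b j i) with hM
  have hMdet : M.det ≠ 0 := by
    have hli : LinearIndependent F M.col := b.linearIndependent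
    rw [Matrix.linearIndependent_cols_iff_isUnit, Matrix.isUnit_iff_isUnit_det] at hli
    exact hli.ne_zero
  have hTM : ∀ (T : Matrix (Fin 3) (Fin 3) F) (d : Fin 3 → F), (∀ j, T *ᵥ b j = d j • b j) →
      T * M = M * Matrix.diagonal d := by
    intro T d hd
    ext i j
    rw [Matrix.mul_diagonal, Matrix.mul_apply]
    have := congrFun (hd j) i
    rw [Matrix.mulVec, dotProduct, Pi.smul_apply, smul_eq_mul] at this
    have h1 : M i j = b j i := rfl
    rw [h1, mul_comm (b j i), ← this]
    rfl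
  obtain ⟨P₀, hP₀⟩ : ∃ P₀ : Matrix (Fin 3) (Fin 3) F, P₀ = M * diagonal ![(M.det)⁻¹, 1, 1] := ⟨_, rfl⟩
  have hPdet : P₀.det = 1 := by
    rw [hP₀, Matrix.det_mul, Matrix.det_diagonal, Fin.prod_univ_three]
    simp only [Matrix.cons_val_zero, Matrix.cons_val_one, Matrix.cons_val, mul_one]
    exact mul_inv_cancel₀ hMdet
  let P : SL3 F := ⟨P₀, hPdet⟩
  have key : ∀ T : SL3 F, (∀ i, T.1 *ᵥ b i = b i ∨ T.1 *ᵥ b i = - b i) → P⁻¹ * T * P ∈ sg F := by
    intro T hT
    have h1 : ∀ i, ∃ d : F, (d = 1 ∨ d = -1) ∧ T.1 *ᵥ b i = d • b i := by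
      intro i
      rcases hT i with h | h
      · exact ⟨1, Or.inl rfl, by rw [h, one_smul]⟩
      · exact ⟨-1, Or.inr rfl, by rw [h, neg_smul, one_smul]⟩
    choose d hd hdb using h1
    have h3 := hTM T.1 d hdb
    have h4 : T.1 * P₀ = P₀ * diagonal d := by
      rw [hP₀, ← mul_assoc, h3, mul_assoc, mul_assoc, diagonal_mul_diagonal, diagonal_mul_diagonal]
      congr 2
      funext i
      ring
    have hdd : (diagonal d).det = 1 := by
      have h5 : (T.1 * P₀).det = (P₀ * diagonal d).det := congrArg Matrix.det h4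
      rw [Matrix.det_mul T.1 P₀, Matrix.det_mul P₀ (diagonal d), hPdet, one_mul, mul_one] at h5
      rw [← h5]
      exact T.2
    refine ⟨d, hd, ?_⟩
    let D : SL3 F := ⟨diagonal d, hdd⟩
    have h6 : T * P = P * D := Subtype.ext h4
    have h7 : P⁻¹ * T * P = D := by
      rw [mul_assoc, h6, inv_mul_cancel_left]
    rw [h7]
  exact ⟨P, key A fun i => (hb i).1, key B fun i => (hb i).2⟩

/-- a subgroup of order 4 and exponent 2 of `SL(3, F)` is conjugate to `sg` -/
theorem exists_conj_sg (h2 : (2 : F) ≠ 0) {W : Subgroup (SL3 F)} (hW : Nat.card W = 4) (hW2 : ∀ x ∈ W, x * x = 1) :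
    ∃ P : SL3 F, W = (sg F).map (MulAut.conj P).toMonoidHom := by
  have hfin : Finite W := Nat.finite_of_card_ne_zero (by rw [hW]; norm_num)
  -- two generators
  obtain ⟨a, ha, ha1⟩ : ∃ a ∈ W, a ≠ 1 := by
    by_contra hcon
    push Not at hcon
    have h1 : W = ⊥ := (eq_bot_iff_forall W).2 hcon
    rw [h1, card_bot] at hW
    omega
  have haa := hW2 a ha
  obtain ⟨b, hb, hb'⟩ : ∃ b ∈ W, b ∉ zpowers a := by
    by_contra hcon
    push Not at hcon
    have h1 : Nat.card W ≤ Nat.card (zpowers a) := by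
      have : Finite (zpowers a) := by
        refine Nat.finite_of_card_ne_zero ?_
        rw [Nat.card_zpowers, ← pos_iff_ne_zero, orderOf_pos_iff, isOfFinOrder_iff_pow_eq_one]
        exact ⟨2, by norm_num, by rw [pow_two, haa]⟩
      exact Subgroup.card_le_of_le hcon
    rw [hW, Nat.card_zpowers] at h1
    have h3 := orderOf_le_of_pow_eq_one (x := a) (n := 2) (by norm_num) (by rw [pow_two, haa])
    omega
  have hcomm : ∀ x ∈ W, ∀ y ∈ W, x * y = y * x := by
    intro x hx y hy
    have h1 := hW2 _ (mul_mem hx hy)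
    have h3 := inv_eq_of_mul_eq_one_left (hW2 x hx)
    have h4 := inv_eq_of_mul_eq_one_left (hW2 y hy)
    have h5 := inv_eq_of_mul_eq_one_left h1
    rw [_root_.mul_inv_rev, h3, h4] at h5
    exact h5.symm
  obtain ⟨P, hPa, hPb⟩ := exists_conj2 h2 haa (hW2 b hb) (hcomm a ha b hb)
  refine ⟨P, ?_⟩
  -- `W` is generated by `a` and `b`
  have hgen : W = _root_.Subgroup.closure {a, b} := by
    have h1 : closure {a, b} ≤ W := by
      rw [closure_le]
      rintro x (rfl | hx)
      · exact ha
      · rw [Set.mem_singleton_iff] at hx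
        rw [hx]
        exact hb
    have hf : Finite ↥(closure ({a, b} : Set (SL3 F))) := Finite.of_injective _ (inclusion_injective h1)
    refine (Subgroup.eq_of_le_of_card_ge h1 ?_).symm
    have h3 : Nat.card ↥(_root_.Subgroup.closure ({a, b} : Set (SL3 F))) ∣ 4 := hW ▸ Subgroup.card_dvd_of_le h1
    have h4 : zpowers a < closure ({a, b} : Set (SL3 F)) := by
      refine lt_of_le_of_ne ((zpowers_le).2 (_root_.Subgroup.subset_closure (by simp))) ?_
      intro h
      exact hb' (h ▸ _root_.Subgroup.subset_closure (by simp))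
    have h5 : Nat.card (zpowers a) < Nat.card ↥(_root_.Subgroup.closure ({a, b} : Set (SL3 F))) := by
      by_contra hcon
      push Not at hcon
      exact h4.ne (Subgroup.eq_of_le_of_card_ge h4.le hcon)
    have h6 : 2 ≤ Nat.card (zpowers a) := by
      rw [Nat.card_zpowers]
      have h7 : orderOf a ∣ 2 := orderOf_dvd_of_pow_eq_one (by rw [pow_two, haa])
      rcases (Nat.dvd_prime Nat.prime_two).1 h7 with h8 | h8
      · exact absurd (orderOf_eq_one_iff.1 h8) ha1
      · omega
    rw [hW]
    have h7 : Nat.card ↥(_root_.Subgroup.closure ({a, b} : Set (SL3 F))) ≤ 4 := Nat.le_of_dvd (by norm_num) h3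
    interval_cases h8 : Nat.card ↥(closure ({a, b} : Set (SL3 F)))
    · omega
    · omega
    · omega
    · omega
    · omega
  have hle : W ≤ (sg F).map (MulAut.conj P).toMonoidHom := by
    rw [hgen, closure_le]
    rintro x (rfl | hx)
    · exact ⟨_, hPa, by simp [mul_assoc]⟩
    · rw [Set.mem_singleton_iff] at hx
      rw [hx]
      exact ⟨_, hPb, by simp [mul_assoc]⟩
  have hc : Nat.card ↥((sg F).map (MulAut.conj P).toMonoidHom) = 4 := by
    rw [Subgroup.card_map_of_injective (MulAut.conj P).injective, card_sg h2]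
  have hf : Finite ↥((sg F).map (MulAut.conj P).toMonoidHom) := Nat.finite_of_card_ne_zero (by rw [hc]; norm_num)
  exact Subgroup.eq_of_le_of_card_ge hle (by rw [hc, hW])

/-! ### centralizer and normalizer of `sg` -/

theorem mem_cent_sg (h2 : (2 : F) ≠ 0) {X : SL3 F} :
    X ∈ centralizer (sg F : Set (SL3 F)) ↔ ∃ d : Fin 3 → F, X.1 = diagonal d := by
  have hone : (1 : F) ≠ -1 := by
    intro h
    apply h2
    linear_combination h
  constructor
  · intro hX
    refine ⟨fun i => X.1 i i, ?_⟩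
    ext i j
    by_cases hij : i = j
    · subst hij
      rw [diagonal_apply_eq]
    · rw [diagonal_apply_ne _ hij]
      have h1 : sd F i * X = X * sd F i := (mem_centralizer_iff.1 hX) _ (sd_mem i)
      have h3 : ((sd F i).1 * X.1) i j = (X.1 * (sd F i).1) i j := congrArg (fun M : SL3 F => M.1 i j) h1
      have h4 : (sd F i).1 = diagonal (fun k => if k = i then (1 : F) else -1) := rfl
      rw [h4, diagonal_mul, mul_diagonal, if_pos rfl, if_neg (Ne.symm hij)] at h3
      have h5 : (2 : F) * X.1 i j = 0 := by linear_combination h3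
      rcases mul_eq_zero.1 h5 with h6 | h6
      · exact absurd h6 h2
      · exact h6
  · rintro ⟨d, hd⟩
    rw [mem_centralizer_iff]
    rintro Y ⟨e, -, he⟩
    apply Subtype.ext
    show (Y.1 * X.1 : Matrix (Fin 3) (Fin 3) F) = X.1 * Y.1
    rw [hd, he, diagonal_mul_diagonal, diagonal_mul_diagonal]
    congr 1
    funext i
    ring

/-- the diagonal matrix with entries `x, y, (x y)⁻¹` -/
def dd (p : Fˣ × Fˣ) : SL3 F :=
  ⟨diagonal ![(p.1 : F), (p.2 : F), ((p.1 * p.2)⁻¹ : Fˣ)], by
    rw [det_diagonal, Fin.prod_univ_three]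
    show (p.1 : F) * (p.2 : F) * (((p.1 * p.2)⁻¹ : Fˣ) : F) = 1
    rw [← Units.val_mul, ← Units.val_mul, mul_inv_cancel, Units.val_one]⟩

theorem card_cent_sg [Fintype F] (h2 : (2 : F) ≠ 0) :
    Nat.card (centralizer (sg F : Set (SL3 F))) = (Fintype.card F - 1) ^ 2 := by
  classical
  have e : Fˣ × Fˣ ≃ centralizer (sg F : Set (SL3 F)) := by
    refine Equiv.ofBijective (fun p => ⟨dd p, (mem_cent_sg h2).2 ⟨_, rfl⟩⟩) ⟨?_, ?_⟩
    · rintro ⟨x, y⟩ ⟨x', y'⟩ h
      have h1 := congrArg (fun M : centralizer (sg F : Set (SL3 F)) => M.1.1) h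
      have h3 := congrFun (congrFun h1 0) 0
      have h4 := congrFun (congrFun h1 1) 1
      simp only [dd, _root_.mul_inv_rev, _root_.Units.val_mul, _root_.Units.val_inv_eq_inv_val, _root_.Fin.isValue, _root_.Matrix.diagonal_apply_eq, _root_.Matrix.cons_val_zero, _root_.Matrix.cons_val_one] at h3 h4
      exact Prod.ext (Units.ext h3) (Units.ext h4)
    · rintro ⟨X, hX⟩
      obtain ⟨d, hd⟩ := (mem_cent_sg h2).1 hX
      have hdet := X.2
      rw [hd, det_diagonal, Fin.prod_univ_three] at hdet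
      have h0 : d 0 ≠ 0 := by
        intro h
        rw [h] at hdet
        simp at hdet
      have h1 : d 1 ≠ 0 := by
        intro h
        rw [h] at hdet
        simp at hdet
      refine ⟨(Units.mk0 _ h0, Units.mk0 _ h1), ?_⟩
      apply Subtype.ext
      apply Subtype.ext
      show diagonal _ = X.1
      rw [hd]
      congr 1
      funext i
      fin_cases i
      · rfl
      · rfl
      · show (((Units.mk0 _ h0 * Units.mk0 _ h1)⁻¹ : Fˣ) : F) = d 2
        rw [Units.val_inv_eq_inv_val, Units.val_mul, Units.val_mk0, Units.val_mk0]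
        rw [inv_eq_of_mul_eq_one_right hdet]
  rw [← Nat.card_congr e, Nat.card_prod, Nat.card_eq_fintype_card, Fintype.card_units, pow_two]

theorem dvd_relIndex {G : Type*} [Group G] [Finite G] {C N : Subgroup G} (hn : (C.subgroupOf N).Normal) {p : ℕ}
    (hp : p.Prime) {n : G} (hnN : n ∈ N) (hnC : n ∉ C) (hnp : n ^ p ∈ C) : p ∣ C.relIndex N := by
  have h1 : orderOf (QuotientGroup.mk (⟨n, hnN⟩ : N) : N ⧸ C.subgroupOf N) = p := by
    have : Fact p.Prime := ⟨hp⟩
    refine orderOf_eq_prime ?_ ?_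
    · rw [← QuotientGroup.mk_pow, QuotientGroup.eq_one_iff, mem_subgroupOf]
      exact hnp
    · intro h
      rw [QuotientGroup.eq_one_iff, mem_subgroupOf] at h
      exact hnC h
  rw [← h1, relIndex]
  exact _root_.orderOf_dvd_natCard _

/-- the cyclic permutation matrix -/
def c3 (F : Type*) [Field F] : SL3 F := ⟨!![0, 0, 1; 1, 0, 0; 0, 1, 0], by rw [det_fin_three]; simp⟩

/-- minus a transposition matrix -/
def c2 (F : Type*) [Field F] : SL3 F := ⟨!![0, -1, 0; -1, 0, 0; 0, 0, -1], by rw [det_fin_three]; simp⟩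

theorem c3_cube : (c3 F) ^ 3 = 1 := by
  apply Subtype.ext
  rw [pow_succ, pow_two]
  show (!![0, 0, 1; 1, 0, 0; 0, 1, 0] * !![0, 0, 1; 1, 0, 0; 0, 1, 0] * !![0, 0, 1; 1, 0, 0; 0, 1, 0] :
    Matrix (Fin 3) (Fin 3) F) = 1
  ext i j
  (revert i j; simp only [Matrix.mul_apply, Fin.sum_univ_three, _root_.Fin.forall_fin_succ, _root_.Matrix.cons_mul, _root_.Nat.succ_eq_add_one, Nat.reduceAdd, _root_.Matrix.vecMul_cons, _root_.Matrix.head_cons, _root_.zero_smul, _root_.Matrix.tail_cons, _root_.one_smul, _root_.Matrix.empty_vecMul, _root_.add_zero, _root_.zero_add, _root_.Matrix.empty_mul, _root_.Equiv.symm_apply_apply, _root_.Matrix.of_apply, _root_.Matrix.cons_val', _root_.Matrix.cons_val_fin_one, Fin.isValue, _root_.Matrix.cons_val_zero, _root_.Matrix.cons_val_one, _root_.Matrix.cons_val, _root_.MulZeroClass.mul_zero, _root_.mul_one, _root_.Matrix.cons_val_succ, _root_.IsEmpty.forall_iff, _root_.and_true, _root_.Matrix.one_apply_eq, _root_.Fin.succ_zero_eq_one, _root_.ne_eq, _root_.zero_ne_one,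 _root_.not_false_eq_true, _root_.Matrix.one_apply_ne, _root_.Fin.succ_one_eq_two, Fin.reduceEq, _root_.and_self, _root_.Fin.succ_ne_zero, _root_.true_and])

theorem c2_sq : (c2 F) ^ 2 = 1 := by
  apply Subtype.ext
  rw [pow_two]
  show (!![0, -1, 0; -1, 0, 0; 0, 0, -1] * !![0, -1, 0; -1, 0, 0; 0, 0, -1] : Matrix (Fin 3) (Fin 3) F) = 1
  ext i j
  (revert i j; simp only [Matrix.mul_apply, Fin.sum_univ_three, _root_.Fin.forall_fin_succ, _root_.Matrix.of_apply, _root_.Matrix.cons_val', _root_.Matrix.cons_val_fin_one, Fin.isValue, _root_.Matrix.cons_val_zero, _root_.Matrix.cons_val_one, _root_.Matrix.cons_val, _root_.MulZeroClass.mul_zero, _root_.mul_neg, _root_.mul_one, _root_.zero_add, _root_.add_zero, _root_.Matrix.cons_val_succ, _root_.IsEmpty.forall_iff, _root_.and_true, _root_.neg_neg, _root_.Matrix.one_apply_eq, _root_.neg_zero, Nat.reduceAdd, _root_.Fin.succ_zero_eq_one, _root_.ne_eq, _root_.zero_ne_one, _root_.not_false_eq_true, _root_.Matrix.one_apply_ne, _root_.Fin.succ_one_eq_two,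 Fin.reduceEq, _root_.and_self, _root_.Fin.succ_ne_zero, _root_.neg_eq_zero, _root_.true_and])

theorem mem_norm_of (h2 : (2 : F) ≠ 0) [Finite F] {g : SL3 F} (h : ∀ i, g * sd F i * g⁻¹ ∈ sg F) :
    g ∈ normalizer (sg F : Set (SL3 F)) := by
  have hle : (sg F).map (MulAut.conj g).toMonoidHom ≤ sg F := by
    rintro _ ⟨X, hX, rfl⟩
    show g * X * g⁻¹ ∈ sg F
    rcases sg_eq h2 hX with rfl | ⟨i, rfl⟩
    · rw [mul_one, mul_inv_cancel]
      exact one_mem _
    · exact h i
  have hfin : Finite (sg F) := Nat.finite_of_card_ne_zero (by rw [card_sg h2]; norm_num)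
  have heq : (sg F).map (MulAut.conj g).toMonoidHom = sg F := Subgroup.eq_of_le_of_card_ge hle (by
    rw [Subgroup.card_map_of_injective (MulAut.conj g).injective])
  rw [mem_normalizer_iff]
  intro X
  constructor
  · intro hX
    exact hle ⟨X, hX, rfl⟩
  · intro hX
    have hX' : g * X * g⁻¹ ∈ sg F := hX
    rw [← heq] at hX'
    obtain ⟨Y, hY, hYX⟩ := hX'
    have h3 : g * Y * g⁻¹ = g * X * g⁻¹ := hYX
    have h4 : Y = X := mul_left_cancel (mul_right_cancel h3)
    rw [← h4]
    exact hY

theorem c3_conj (i : Fin 3) : c3 F * sd F i = sd F (i + 1) * c3 F := by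
  apply Subtype.ext
  show (!![0, 0, 1; 1, 0, 0; 0, 1, 0] : Matrix (Fin 3) (Fin 3) F) * (sd F i).1 = (sd F (i + 1)).1 *
    (!![0, 0, 1; 1, 0, 0; 0, 1, 0] : Matrix (Fin 3) (Fin 3) F)
  ext j k
  (revert i j k; simp only [Matrix.mul_apply, Fin.sum_univ_three, sd, _root_.Fin.forall_fin_succ, _root_.Matrix.of_apply, _root_.Matrix.cons_val', _root_.Matrix.cons_val_fin_one, Fin.isValue, _root_.Matrix.cons_val_zero, _root_.Matrix.cons_val_one, _root_.Matrix.cons_val, _root_.Matrix.diagonal_apply_eq, _root_.mul_ite, _root_.mul_one, _root_.mul_neg, _root_.ne_eq, _root_.one_ne_zero, _root_.not_false_eq_true, _root_.Matrix.diagonal_apply_ne, _root_.MulZeroClass.mul_zero, _root_.add_zero, Fin.reduceEq, _root_.zero_add, _root_.Matrix.cons_val_succ, _root_.Fin.succ_zero_eq_one, _root_.zero_ne_one, _root_.Fin.succ_one_eq_two, _root_.IsEmpty.forall_iff, _root_.and_true, _root_.neg_zero, _root_.ite_self, _root_.true_and, _root_.Fin.succ_ne_zero, _root_.right_eq_add, _root_.and_self, ↓reduceIte, _root_.ite_eq_right_iff,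 Fin.reduceAdd])

theorem c2_conj (i : Fin 3) : c2 F * sd F i = sd F (Equiv.swap 0 1 i) * c2 F := by
  apply Subtype.ext
  show (!![0, -1, 0; -1, 0, 0; 0, 0, -1] : Matrix (Fin 3) (Fin 3) F) * (sd F i).1 = (sd F (Equiv.swap 0 1 i)).1 *
    (!![0, -1, 0; -1, 0, 0; 0, 0, -1] : Matrix (Fin 3) (Fin 3) F)
  ext j k
  (revert i j k; simp only [Matrix.mul_apply, Fin.sum_univ_three, sd, Equiv.swap_apply_def, _root_.Fin.forall_fin_succ, _root_.Matrix.of_apply, _root_.Matrix.cons_val', _root_.Matrix.cons_val_fin_one, Fin.isValue, _root_.Matrix.cons_val_zero, _root_.Matrix.cons_val_one, _root_.Matrix.cons_val, _root_.Matrix.diagonal_apply_eq, _root_.mul_ite, _root_.mul_one, _root_.mul_neg, _root_.ne_eq, _root_.one_ne_zero, _root_.not_false_eq_true, _root_.Matrix.diagonal_apply_ne, _root_.MulZeroClass.mul_zero, _root_.add_zero, Fin.reduceEq, _root_.zero_add, _root_.Matrix.cons_val_succ, _root_.Fin.succ_zero_eq_one, _root_.zero_ne_one, _root_.Fin.succ_one_eq_two, _root_.IsEmpty.forall_iff, _root_.and_true,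 _root_.neg_zero, _root_.ite_self, _root_.neg_neg, _root_.true_and, _root_.Fin.succ_ne_zero, _root_.left_eq_ite_iff, _root_.and_self, _root_.zero_eq_neg, ↓reduceIte, _root_.not_true_eq_false, _root_.imp_self, _root_.forall_const, _root_.imp_false])

theorem card_norm_sg [Finite F] (h2 : (2 : F) ≠ 0) :
    Nat.card (normalizer (sg F : Set (SL3 F))) = 6 * Nat.card (centralizer (sg F : Set (SL3 F))) := by
  have hle : centralizer (sg F : Set (SL3 F)) ≤ normalizer (sg F : Set (SL3 F)) := centralizer_le_normalizer _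
  have hK : IsKleinFour (sg F) := by
    refine ⟨card_sg h2, ?_⟩
    have h1 : Monoid.exponent (sg F) ∣ 2 := by
      rw [Monoid.exponent_dvd_iff_forall_pow_eq_one]
      rintro ⟨X, d, hd, hX⟩
      apply Subtype.ext
      apply Subtype.ext
      rw [pow_two]
      show (X.1 * X.1 : Matrix (Fin 3) (Fin 3) F) = 1
      rw [hX, diagonal_mul_diagonal, ← diagonal_one]
      congr 1
      funext i
      rcases hd i with h | h <;> rw [h] <;> simp
    rcases (Nat.dvd_prime Nat.prime_two).1 h1 with h3 | h3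
    · exfalso
      rw [Monoid.exp_eq_one_iff] at h3
      have h4 := card_sg h2
      rw [Nat.card_unique] at h4
      omega
    · exact h3
  have h6 := Cfsg.Agent.TwoFusion.LocalIndex.relIndex_kleinFour_dvd (sg F) hK
  have hn : ((centralizer (sg F : Set (SL3 F))).subgroupOf (normalizer (sg F : Set (SL3 F)))).Normal := by
    rw [← Subgroup.normalizerMonoidHom_ker]
    exact MonoidHom.normal_ker _
  have h3 : 3 ∣ (centralizer (sg F : Set (SL3 F))).relIndex (normalizer (sg F : Set (SL3 F))) := by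
    refine dvd_relIndex hn Nat.prime_three (n := c3 F) (mem_norm_of h2 fun i => ?_) ?_ ?_
    · rw [c3_conj, mul_inv_cancel_right]
      exact sd_mem _
    · intro h
      have h1 : sd F 0 * c3 F = c3 F * sd F 0 := (mem_centralizer_iff.1 h) _ (sd_mem 0)
      rw [c3_conj] at h1
      have := sd_injective h2 (mul_right_cancel h1)
      exact absurd this (by decide)
    · rw [c3_cube]
      exact one_mem _
  have h2' : 2 ∣ (centralizer (sg F : Set (SL3 F))).relIndex (normalizer (sg F : Set (SL3 F))) := by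
    refine dvd_relIndex hn Nat.prime_two (n := c2 F) (mem_norm_of h2 fun i => ?_) ?_ ?_
    · rw [c2_conj, mul_inv_cancel_right]
      exact sd_mem _
    · intro h
      have h1 : sd F 0 * c2 F = c2 F * sd F 0 := (mem_centralizer_iff.1 h) _ (sd_mem 0)
      rw [c2_conj] at h1
      have := sd_injective h2 (mul_right_cancel h1)
      exact absurd this (by decide)
    · rw [c2_sq]
      exact one_mem _
  have h7 : (centralizer (sg F : Set (SL3 F))).relIndex (normalizer (sg F : Set (SL3 F))) = 6 :=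
    Nat.dvd_antisymm h6 (Nat.Coprime.mul_dvd_of_dvd_of_dvd (by norm_num : Nat.Coprime 2 3) h2' h3)
  have h8 := Subgroup.relIndex_mul_relIndex (⊥ : Subgroup (SL3 F)) _ _ bot_le hle
  rw [h7, relIndex_bot_left, relIndex_bot_left] at h8
  rw [← h8, mul_comm]

/-! ### lifting to `SL(3, F)` -/

local notation "PSL3" => Matrix.ProjectiveSpecialLinearGroup (Fin 3)

/-- the projection -/
abbrev pr (F : Type*) [Field F] : SL3 F →* PSL3 F := QuotientGroup.mk' (center (SL3 F))

theorem pr_eq_one {z : SL3 F} : pr F z = 1 ↔ z ∈ center (SL3 F) := QuotientGroup.eq_one_iff z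

theorem eq_one_of_center {z : SL3 F} (hz : z ∈ center (SL3 F)) (h : z * z = 1) : z = 1 := by
  have h3 := TwoFusion.PSL3Inv.pow_three_of_mem_center hz
  rw [pow_succ, pow_two, h, one_mul] at h3
  exact h3

/-- elements with square 1 which commute in the quotient commute -/
theorem eq_of_pr {g s t : SL3 F} (hs : s * s = 1) (ht : t * t = 1) (h : pr F (g * s * g⁻¹) = pr F t) :
    g * s * g⁻¹ = t := by
  have h1 : g * s * g⁻¹ * t⁻¹ ∈ center (SL3 F) := by
    rw [← pr_eq_one, map_mul, h, map_inv, mul_inv_cancel]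
  obtain ⟨z, hz⟩ : ∃ z, z = g * s * g⁻¹ * t⁻¹ := ⟨_, rfl⟩
  rw [← hz] at h1
  have h2 : g * s * g⁻¹ = z * t := by rw [hz]; group
  have h3 : z * z = 1 := by
    have h4 : (g * s * g⁻¹) * (g * s * g⁻¹) = 1 := by
      calc (g * s * g⁻¹) * (g * s * g⁻¹) = g * (s * s) * g⁻¹ := by group
        _ = 1 := by rw [hs]; group
    rw [h2] at h4
    have h5 : t * z = z * t := (mem_center_iff.1 h1) t
    calc z * z = z * z * (t * t) := by rw [ht, mul_one]
      _ = z * (z * t) * t := by group
      _ = z * (t * z) * t := by rw [h5]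
      _ = (z * t) * (z * t) := by group
      _ = 1 := h4
  rw [h2, eq_one_of_center h1 h3, one_mul]

theorem comm_of_pr {s t : SL3 F} (hs : s * s = 1) (h : pr F (s * t) = pr F (t * s)) : t * s * t⁻¹ = s := by
  refine eq_of_pr hs hs ?_
  rw [map_mul, ← h, map_mul, map_inv, mul_inv_cancel_right]

variable (V : Subgroup (PSL3 F))

/-- the lift of a subgroup of exponent 2 -/
def lft (hV2 : ∀ x ∈ V, x * x = 1) : Subgroup (SL3 F) where
  carrier := {s | s * s = 1 ∧ pr F s ∈ V}
  one_mem' := ⟨mul_one 1, by rw [map_one]; exact one_mem V⟩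
  mul_mem' := by
    rintro s t ⟨hs, hs'⟩ ⟨ht, ht'⟩
    refine ⟨?_, by rw [map_mul]; exact mul_mem hs' ht'⟩
    have h1 : pr F (s * t) = pr F (t * s) := by
      have h2 := hV2 _ (mul_mem hs' ht')
      have h3 := inv_eq_of_mul_eq_one_left (hV2 _ hs')
      have h4 := inv_eq_of_mul_eq_one_left (hV2 _ ht')
      have h5 := inv_eq_of_mul_eq_one_left h2
      rw [_root_.mul_inv_rev, h3, h4] at h5
      rw [map_mul, map_mul]
      exact h5.symm
    have h2 := comm_of_pr hs h1
    have h3 : t * s = s * t := by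
      calc t * s = (t * s * t⁻¹) * t := by group
        _ = s * t := by rw [h2]
    calc s * t * (s * t) = s * (t * s) * t := by group
      _ = s * (s * t) * t := by rw [h3]
      _ = (s * s) * (t * t) := by group
      _ = 1 := by rw [hs, ht, mul_one]
  inv_mem' := by
    rintro s ⟨hs, hs'⟩
    refine ⟨?_, by rw [map_inv]; exact inv_mem hs'⟩
    rw [← _root_.mul_inv_rev, hs, inv_one]

variable {V} {hV2 : ∀ x ∈ V, x * x = 1}

theorem exists_lift {x : PSL3 F} (hx : x * x = 1) : ∃ s : SL3 F, s * s = 1 ∧ pr F s = x := by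
  obtain ⟨s, rfl⟩ := QuotientGroup.mk'_surjective (center (SL3 F)) x
  have h1 : s * s ∈ center (SL3 F) := by
    rw [← pr_eq_one, map_mul]
    exact hx
  have h3 := TwoFusion.PSL3Inv.pow_three_of_mem_center h1
  refine ⟨s * (s * s), ?_, ?_⟩
  · rw [pow_succ, pow_two] at h3
    calc s * (s * s) * (s * (s * s)) = s * s * (s * s) * (s * s) := by group
      _ = 1 := h3
  · rw [map_mul, pr_eq_one.2 h1, mul_one]

theorem map_lft : (lft V hV2).map (pr F) = V := by
  apply le_antisymm
  · rintro _ ⟨s, hs, rfl⟩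
    exact hs.2
  · intro x hx
    obtain ⟨s, hs, rfl⟩ := exists_lift (hV2 x hx)
    exact ⟨s, ⟨hs, hx⟩, rfl⟩

theorem card_lft : Nat.card (lft V hV2) = Nat.card V := by
  have h1 : Function.Injective ((pr F).comp (lft V hV2).subtype) := by
    rw [injective_iff_map_eq_one]
    rintro ⟨s, hs⟩ h
    have h2 : pr F s = 1 := h
    exact Subtype.ext (eq_one_of_center (pr_eq_one.1 h2) hs.1)
  have h2 : ((pr F).comp (lft V hV2).subtype).range = V := by
    rw [MonoidHom.range_comp, Subgroup.range_subtype]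
    exact map_lft
  exact (Nat.card_congr (MonoidHom.ofInjective h1).toEquiv).trans (by rw [h2])

theorem comap_centralizer : (centralizer (V : Set (PSL3 F))).comap (pr F) = centralizer (lft V hV2 : Set (SL3 F)) := by
  ext g
  rw [mem_comap, mem_centralizer_iff, mem_centralizer_iff]
  constructor
  · rintro h s ⟨hs, hs'⟩
    have h1 : g * s * g⁻¹ = s := by
      refine comm_of_pr hs ?_
      rw [map_mul, map_mul]
      exact h _ hs'
    calc s * g = (g * s * g⁻¹) * g := by rw [h1]
      _ = g * s := by group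
  · intro h x hx
    obtain ⟨s, hs, rfl⟩ := exists_lift (hV2 x hx)
    have h1 := congrArg (pr F) (h s ⟨hs, hx⟩)
    rwa [map_mul, map_mul] at h1

theorem comap_normalizer : (normalizer (V : Set (PSL3 F))).comap (pr F) = normalizer (lft V hV2 : Set (SL3 F)) := by
  ext g
  rw [mem_comap, mem_normalizer_iff, mem_normalizer_iff]
  constructor
  · intro h s
    have h1 := h (pr F s)
    have h2 : pr F (g * s * g⁻¹) = pr F g * pr F s * (pr F g)⁻¹ := by rw [map_mul, map_mul, map_inv]
    have h3 : g * s * g⁻¹ * (g * s * g⁻¹) = g * (s * s) * g⁻¹ := by group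
    constructor
    · rintro ⟨hs, hs'⟩
      refine ⟨by rw [h3, hs]; group, ?_⟩
      rw [h2]
      exact h1.1 hs'
    · rintro ⟨hs, hs'⟩
      rw [h2] at hs'
      refine ⟨?_, h1.2 hs'⟩
      rw [h3] at hs
      calc s * s = g⁻¹ * (g * (s * s) * g⁻¹) * g := by group
        _ = 1 := by rw [hs]; group
  · intro h x
    have key : ∀ (g' : SL3 F), (∀ s, s ∈ lft V hV2 → g' * s * g'⁻¹ ∈ lft V hV2) → ∀ x ∈ V,
        pr F g' * x * (pr F g')⁻¹ ∈ V := by
      intro g' hg' x hx
      obtain ⟨s, hs, rfl⟩ := exists_lift (hV2 x hx)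
      have h1 := (hg' s ⟨hs, hx⟩).2
      rwa [map_mul, map_mul, map_inv] at h1
    constructor
    · exact key g (fun s hs => (h s).1 hs) x
    · intro hx
      have h1 := key g⁻¹ (fun s hs => by
        rw [h]
        have : g * (g⁻¹ * s * g⁻¹⁻¹) * g⁻¹ = s := by group
        rwa [this]) _ hx
      rw [map_inv] at h1
      have h2 : (pr F g)⁻¹ * (pr F g * x * (pr F g)⁻¹) * (pr F g)⁻¹⁻¹ = x := by group
      rwa [h2] at h1

theorem card_comap [Finite F] (H : Subgroup (PSL3 F)) :
    Nat.card (H.comap (pr F)) = Nat.card H * Nat.card (center (SL3 F)) := by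
  have h1 : (H.comap (pr F)).index = H.index := index_comap_of_surjective _ (QuotientGroup.mk'_surjective _)
  have h2 := Subgroup.card_mul_index (H.comap (pr F))
  have h3 := Subgroup.card_mul_index H
  have h4 : Nat.card (SL3 F) = Nat.card (PSL3 F) * Nat.card (center (SL3 F)) :=
    card_eq_card_quotient_mul_card_subgroup _
  rw [h1, h4, ← h3] at h2
  have h5 : 0 < H.index := Nat.pos_of_ne_zero (Subgroup.index_ne_zero_of_finite)
  apply Nat.eq_of_mul_eq_mul_right h5
  rw [h2]
  ring

theorem card_centralizer_map {G : Type*} [Group G] (W : Subgroup G) (P : G) :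
    Nat.card (centralizer ((W.map (MulAut.conj P).toMonoidHom : Subgroup G) : Set G)) =
      Nat.card (centralizer (W : Set G)) := by
  have h1 : centralizer ((W.map (MulAut.conj P).toMonoidHom : Subgroup G) : Set G) =
      (centralizer (W : Set G)).map (MulAut.conj P).toMonoidHom := by
    ext g
    rw [mem_centralizer_iff]
    constructor
    · intro h
      refine ⟨P⁻¹ * g * P, ?_, by simp [mul_assoc]⟩
      rw [SetLike.mem_coe, mem_centralizer_iff]
      intro w hw
      have h2 := h (P * w * P⁻¹) ⟨w, hw, rfl⟩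
      calc w * (P⁻¹ * g * P) = P⁻¹ * (P * w * P⁻¹ * g) * P := by group
        _ = P⁻¹ * (g * (P * w * P⁻¹)) * P := by rw [h2]
        _ = P⁻¹ * g * P * w := by group
    · rintro ⟨c, hc, rfl⟩ _ ⟨w, hw, rfl⟩
      have h2 : w * c = c * w := (mem_centralizer_iff.1 hc) w hw
      show P * w * P⁻¹ * (P * c * P⁻¹) = P * c * P⁻¹ * (P * w * P⁻¹)
      calc P * w * P⁻¹ * (P * c * P⁻¹) = P * (w * c) * P⁻¹ := by group
        _ = P * (c * w) * P⁻¹ := by rw [h2]
        _ = _ := by group
  rw [h1, Subgroup.card_map_of_injective (MulAut.conj P).injective]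

theorem card_normalizer_map {G : Type*} [Group G] (W : Subgroup G) (P : G) :
    Nat.card (normalizer ((W.map (MulAut.conj P).toMonoidHom : Subgroup G) : Set G)) =
      Nat.card (normalizer (W : Set G)) := by
  have h1 : normalizer ((W.map (MulAut.conj P).toMonoidHom : Subgroup G) : Set G) =
      (normalizer (W : Set G)).map (MulAut.conj P).toMonoidHom := by
    have hmem : ∀ x : G, x ∈ W.map (MulAut.conj P).toMonoidHom ↔ P⁻¹ * x * P ∈ W := by
      intro x
      constructor
      · rintro ⟨w, hw, rfl⟩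
        have : P⁻¹ * (P * w * P⁻¹) * P = w := by group
        show P⁻¹ * (P * w * P⁻¹) * P ∈ W
        rwa [this]
      · intro hx
        exact ⟨_, hx, by simp [mul_assoc]⟩
    ext g
    rw [mem_normalizer_iff]
    constructor
    · intro h
      refine ⟨P⁻¹ * g * P, ?_, by simp only [mul_assoc, _root_.MulEquiv.toMonoidHom_eq_coe, _root_.MonoidHom.coe_coe, _root_.MulAut.conj_apply, _root_.mul_inv_cancel_left, _root_.mul_inv_cancel, _root_.mul_one]⟩
      rw [SetLike.mem_coe, mem_normalizer_iff]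
      intro w
      have h2 := h (P * w * P⁻¹)
      rw [hmem, hmem] at h2
      have e1 : P⁻¹ * (P * w * P⁻¹) * P = w := by group
      have e2 : P⁻¹ * (g * (P * w * P⁻¹) * g⁻¹) * P = P⁻¹ * g * P * w * (P⁻¹ * g * P)⁻¹ := by group
      rwa [e1, e2] at h2
    · rintro ⟨c, hc, rfl⟩ x
      rw [hmem, hmem]
      have h2 := (mem_normalizer_iff.1 hc) (P⁻¹ * x * P)
      rw [h2]
      have e2 : c * (P⁻¹ * x * P) * c⁻¹ = P⁻¹ * ((P * c * P⁻¹) * x * (P * c * P⁻¹)⁻¹) * P := by group
      rw [e2]
      rfl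
  rw [h1, Subgroup.card_map_of_injective (MulAut.conj P).injective]

/-- **Lemma T1.** -/
theorem psl3_four {F : Type} [Field F] [Fintype F] (h2 : (2 : F) ≠ 0)
    (V : Subgroup (Matrix.ProjectiveSpecialLinearGroup (Fin 3) F)) (hV : Nat.card V = 4) (hV2 : ∀ x ∈ V, x * x = 1) :
    Nat.card (centralizer (V : Set (Matrix.ProjectiveSpecialLinearGroup (Fin 3) F))) * Nat.gcd 3 (Fintype.card F - 1) =
        (Fintype.card F - 1) ^ 2 ∧
      Nat.card (normalizer (V : Set (Matrix.ProjectiveSpecialLinearGroup (Fin 3) F))) =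
        6 * Nat.card (centralizer (V : Set (Matrix.ProjectiveSpecialLinearGroup (Fin 3) F))) := by
  have hc := card_comap (centralizer (V : Set (PSL3 F)))
  have hn := card_comap (normalizer (V : Set (PSL3 F)))
  rw [comap_centralizer (hV2 := hV2)] at hc
  rw [comap_normalizer (hV2 := hV2)] at hn
  obtain ⟨P, hP⟩ := exists_conj_sg h2 (W := lft V hV2) (by rw [card_lft, hV]) (fun x hx => hx.1)
  rw [hP, card_centralizer_map, card_cent_sg h2] at hc
  rw [hP, card_normalizer_map, card_norm_sg h2, card_cent_sg h2, hc] at hn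
  have hz : Nat.card (center (SL3 F)) = Nat.gcd 3 (Fintype.card F - 1) := S0280.card_center_SL (by norm_num)
  refine ⟨by rw [← hz]; exact hc.symm, ?_⟩
  have hz0 : 0 < Nat.card (center (SL3 F)) := Nat.card_pos
  apply Nat.eq_of_mul_eq_mul_right hz0
  rw [← hn]
  ring

end Cfsg.Agent.H500.Psl3Four
end

-- part: H5/Four/Final
section
/-!
# The simple case, `8 ∤ |C_T(V)|` (helper5)
-/

set_option autoImplicit false
set_option linter.unusedSectionVars false

namespace Cfsg.Agent.H5.Four

open Subgroup Cfsg Cfsg.Agent.H399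
open Cfsg.Agent.SectRankFour.OutAb (OutComm OutAb outAb_iff)
open scoped commutatorElement Pointwise

universe u v

section transport

variable {X : Type u} {Y : Type v} [Group X] [Group Y]

theorem card_centralizer_map (e : X ≃* Y) (W : Subgroup X) :
    Nat.card (centralizer ((W.map e.toMonoidHom : Subgroup Y) : Set Y)) = Nat.card (centralizer (W : Set X)) := by
  have h1 : centralizer ((W.map e.toMonoidHom : Subgroup Y) : Set Y) = (centralizer (W : Set X)).map e.toMonoidHom := by
    ext g
    constructor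
    · intro h
      refine ⟨e.symm g, ?_, e.apply_symm_apply g⟩
      rw [SetLike.mem_coe, mem_centralizer_iff]
      intro w hw
      have h2 := mem_centralizer_iff.1 h (e w) ⟨w, hw, rfl⟩
      apply e.injective
      rw [map_mul, map_mul, e.apply_symm_apply]
      exact h2
    · rintro ⟨x, hx, rfl⟩
      rw [mem_centralizer_iff]
      rintro _ ⟨w, hw, rfl⟩
      have h2 := mem_centralizer_iff.1 hx w hw
      change e w * e x = e x * e w
      rw [← map_mul, h2, map_mul]
  rw [h1, card_map_of_injective (f := e.toMonoidHom) e.injective]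

theorem card_normalizer_map (e : X ≃* Y) (W : Subgroup X) :
    Nat.card (normalizer ((W.map e.toMonoidHom : Subgroup Y) : Set Y)) = Nat.card (normalizer (W : Set X)) := by
  have hmem : ∀ x : X, e x ∈ W.map e.toMonoidHom ↔ x ∈ W := by
    intro x
    constructor
    · rintro ⟨w, hw, h⟩
      rwa [← e.injective h]
    · intro h
      exact ⟨x, h, rfl⟩
  have h1 : normalizer ((W.map e.toMonoidHom : Subgroup Y) : Set Y) = (normalizer (W : Set X)).map e.toMonoidHom := by
    ext g
    constructor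
    · intro h
      refine ⟨e.symm g, ?_, e.apply_symm_apply g⟩
      rw [SetLike.mem_coe, mem_normalizer_iff]
      intro w
      have h2 := mem_normalizer_iff.1 h (e w)
      rw [← hmem w, ← hmem]
      simpa only [_root_.MulEquiv.toMonoidHom_eq_coe, _root_.Subgroup.mem_map, _root_.MonoidHom.coe_coe, _root_.EmbeddingLike.apply_eq_iff_eq, _root_.exists_eq_right, _root_.map_mul, _root_.MulEquiv.apply_symm_apply, _root_.map_inv] using h2
    · rintro ⟨x, hx, rfl⟩
      rw [mem_normalizer_iff]
      intro y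
      obtain ⟨w, rfl⟩ := e.surjective y
      have h2 := mem_normalizer_iff.1 hx w
      rw [← hmem w, ← hmem] at h2
      simpa only [_root_.MulEquiv.toMonoidHom_eq_coe, _root_.Subgroup.mem_map, _root_.MonoidHom.coe_coe, _root_.EmbeddingLike.apply_eq_iff_eq, _root_.exists_eq_right, _root_.map_mul, _root_.map_inv] using h2
  rw [h1, card_map_of_injective (f := e.toMonoidHom) e.injective]

end transport

section

variable {G : Type u} [Group G] [Finite G]

theorem commutator_mem {T : Subgroup G} [T.Normal] (hC : centralizer (T : Set G) = ⊥) (hO : OutComm T) (a b : G) :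
    ⁅a, b⁆ ∈ T := by
  let φ : G →* MulAut T := MulAut.conjNormal
  have hφ : ∀ (h : G) (l : T), ((φ h l : T) : G) = h * l * h⁻¹ := fun h l => rfl
  obtain ⟨k, hk⟩ := hO (φ a) (φ b)
  have e : φ a * φ b * (φ a)⁻¹ * (φ b)⁻¹ = φ ⁅a, b⁆ := by
    rw [commutatorElement_def, map_mul, map_mul, map_mul, map_inv, map_inv]
  have h1 : (k : G)⁻¹ * ⁅a, b⁆ ∈ centralizer (T : Set G) := by
    rw [mem_centralizer_iff]
    intro x hx
    have h2 := hk ⟨x, hx⟩
    rw [e] at h2
    have h3 : ⁅a, b⁆ * x * ⁅a, b⁆⁻¹ = k * x * (k : G)⁻¹ := congrArg Subtype.val h2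
    have h4 : ⁅a, b⁆ * x = k * x * (k : G)⁻¹ * ⁅a, b⁆ := by rw [← h3]; group
    rw [mul_assoc, h4]
    group
  rw [hC, mem_bot, inv_mul_eq_one] at h1
  rw [← h1]
  exact k.2

theorem le_centralizer_of {A R T : Subgroup G} [T.Normal] (hN : normalizer (R : Set G) = A) (hRT : R ⊓ T = ⊥)
    (hc : ∀ a b : G, ⁅a, b⁆ ∈ T) : A ≤ centralizer (R : Set G) := by
  intro a ha
  rw [mem_centralizer_iff]
  intro r hr
  rw [← hN] at ha
  have h1 : a * r * a⁻¹ ∈ R := (mem_normalizer_iff.1 ha r).1 hr
  have h2 : ⁅a, r⁆ ∈ R := by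
    rw [commutatorElement_def]
    exact R.mul_mem h1 (R.inv_mem hr)
  have h3 : ⁅a, r⁆ ∈ R ⊓ T := ⟨h2, hc a r⟩
  rw [hRT, mem_bot, commutatorElement_eq_one_iff_mul_comm] at h3
  exact h3.symm

theorem card_centralizer_inf {T V : Subgroup G} (hVT : V ≤ T) :
    Nat.card (centralizer ((V.subgroupOf T : Subgroup T) : Set T)) = Nat.card (T ⊓ centralizer (V : Set G) : Subgroup G) := by
  have h1 : (centralizer ((V.subgroupOf T : Subgroup T) : Set T)).map T.subtype = T ⊓ centralizer (V : Set G) := by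
    ext g
    constructor
    · rintro ⟨x, hx, rfl⟩
      refine ⟨x.2, mem_centralizer_iff.2 fun v hv => ?_⟩
      exact congrArg Subtype.val (mem_centralizer_iff.1 hx ⟨v, hVT hv⟩ (mem_subgroupOf.2 hv))
    · rintro ⟨hg, hc⟩
      refine ⟨⟨g, hg⟩, mem_centralizer_iff.2 fun v hv => Subtype.ext ?_, rfl⟩
      exact mem_centralizer_iff.1 hc v (mem_subgroupOf.1 hv)
  rw [← h1, card_map_of_injective T.subtype_injective]

theorem card_normalizer_inf {T V : Subgroup G} (hVT : V ≤ T) :
    Nat.card (normalizer ((V.subgroupOf T : Subgroup T) : Set T)) = Nat.card (T ⊓ normalizer (V : Set G) : Subgroup G) := by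
  have h1 : (normalizer ((V.subgroupOf T : Subgroup T) : Set T)).map T.subtype = T ⊓ normalizer (V : Set G) := by
    ext g
    constructor
    · rintro ⟨x, hx, rfl⟩
      refine ⟨x.2, mem_normalizer_iff.2 fun v => ?_⟩
      constructor
      · intro hv
        exact mem_subgroupOf.1 ((mem_normalizer_iff.1 hx ⟨v, hVT hv⟩).1 (mem_subgroupOf.2 hv))
      · intro hv
        have h2 : v ∈ T := by
          have h3 := hVT hv
          have : v = (x : G)⁻¹ * (T.subtype x * v * (T.subtype x)⁻¹) * x := by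
            change v = (x : G)⁻¹ * ((x : G) * v * (x : G)⁻¹) * x
            group
          rw [this]
          exact T.mul_mem (T.mul_mem (T.inv_mem x.2) h3) x.2
        exact mem_subgroupOf.1 ((mem_normalizer_iff.1 hx ⟨v, h2⟩).2 (mem_subgroupOf.2 hv))
    · rintro ⟨hg, hc⟩
      refine ⟨⟨g, hg⟩, mem_normalizer_iff.2 fun v => ?_, rfl⟩
      rw [mem_subgroupOf, mem_subgroupOf]
      exact mem_normalizer_iff.1 hc v
  rw [← h1, card_map_of_injective T.subtype_injective]

theorem exists_two {V : Subgroup G} (hV : Nat.card V = 4) : ∃ a ∈ V, ∃ b ∈ V, a ≠ 1 ∧ b ≠ 1 ∧ a ≠ b := by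
  have h1 : 1 < Nat.card V := by omega
  have : Nontrivial V := Finite.one_lt_card_iff_nontrivial.1 h1
  obtain ⟨a, ha⟩ := exists_ne (1 : V)
  have h2 : ∃ b : V, b ≠ 1 ∧ b ≠ a := by
    by_contra hcon
    push Not at hcon
    have h3 : Nat.card V ≤ 2 := H219.FourSelf.card_le_two (1 : V) a fun c => by
      by_cases hc : c = 1
      · exact Or.inl hc
      · exact Or.inr (hcon c hc)
    omega
  obtain ⟨b, hb1, hba⟩ := h2
  exact ⟨a, a.2, b, b.2, fun h => ha (Subtype.ext h), fun h => hb1 (Subtype.ext h), fun h => hba (Subtype.ext h.symm)⟩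

theorem card_of_self {T V : Subgroup G} (hVT : V ≤ T) (hV : Nat.card V = 4) (hV2 : ∀ x ∈ V, x * x = 1)
    (hself : ∀ a b x : G, a ∈ V → b ∈ V → x ∈ T → a ≠ 1 → b ≠ 1 → a ≠ b → x * a = a * x → x * b = b * x →
      x = 1 ∨ x = a ∨ x = b ∨ x = a * b) : Nat.card (T ⊓ centralizer (V : Set G) : Subgroup G) = 4 := by
  obtain ⟨a, ha, b, hb, ha1, hb1, hab⟩ := exists_two hV
  have h1 : T ⊓ centralizer (V : Set G) = V := by
    apply le_antisymm
    · rintro x ⟨hxT, hxC⟩
      replace hxC := mem_centralizer_iff.1 hxC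
      rcases hself a b x ha hb hxT ha1 hb1 hab (hxC a ha).symm (hxC b hb).symm with h | h | h | h
      · rw [h]; exact V.one_mem
      · rw [h]; exact ha
      · rw [h]; exact hb
      · rw [h]; exact V.mul_mem ha hb
    · refine le_inf hVT fun x hx => mem_centralizer_iff.2 fun v hv => ?_
      have h1 := hV2 _ (V.mul_mem hv hx)
      have h2 := hV2 v hv
      have h3 := hV2 x hx
      calc v * x = v * (v * x * (v * x)) * x := by rw [h1]; group
        _ = (v * v) * (x * v) * (x * x) := by group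
        _ = x * v := by rw [h2, h3]; group
  rw [h1, hV]

theorem seven_or_three {q d : ℕ} (hd : d = 4 ∨ d = 12) (hq : q % 4 = 3) (h : d * Nat.gcd 3 (q - 1) = (q - 1) ^ 2) :
    (d = 4 ∧ q = 3) ∨ (d = 12 ∧ q = 7) := by
  have hg : Nat.gcd 3 (q - 1) = 1 ∨ Nat.gcd 3 (q - 1) = 3 :=
    (Nat.dvd_prime Nat.prime_three).1 (Nat.gcd_dvd_left 3 (q - 1))
  have h36 : (q - 1) ^ 2 ≤ 36 := by
    rw [← h]
    rcases hd with rfl | rfl <;> rcases hg with hg | hg <;> rw [hg] <;> norm_num
  have hq7 : q - 1 ≤ 6 := by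
    by_contra hcon
    have : 7 ^ 2 ≤ (q - 1) ^ 2 := Nat.pow_le_pow_left (by omega) 2
    omega
  have : q = 3 ∨ q = 7 := by omega
  rcases this with rfl | rfl
  · norm_num at h
    left
    exact ⟨by omega, rfl⟩
  · norm_num at h
    right
    exact ⟨by omega, rfl⟩

theorem five_of {q d : ℕ} (hd : d = 4 ∨ d = 12) (hq : q % 4 = 1) (hq1 : q ≠ 1) (h : d * Nat.gcd 3 (q + 1) = (q + 1) ^ 2) :
    q = 5 := by
  have hg : Nat.gcd 3 (q + 1) = 1 ∨ Nat.gcd 3 (q + 1) = 3 :=
    (Nat.dvd_prime Nat.prime_three).1 (Nat.gcd_dvd_left 3 (q + 1))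
  have h36 : (q + 1) ^ 2 ≤ 36 := by
    rw [← h]
    rcases hd with rfl | rfl <;> rcases hg with hg | hg <;> rw [hg] <;> norm_num
  have hq7 : q + 1 ≤ 6 := by
    by_contra hcon
    have : 7 ^ 2 ≤ (q + 1) ^ 2 := Nat.pow_le_pow_left (by omega) 2
    omega
  omega

theorem card_psl3_seven {F : Type} [Field F] [Fintype F] (hF : Fintype.card F = 7) :
    Nat.card (Matrix.ProjectiveSpecialLinearGroup (Fin 3) F) = 1876896 := by
  have h := S0243.result (F := F) hF 3 (by norm_num)
  rw [Fin.prod_univ_three] at h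
  norm_num only [_root_.Fin.coe_ofNat_eq_mod, _root_.pow_zero, _root_.Nat.add_one_sub_one, _root_.pow_one] at h
  omega

/-- **The simple case, `8 ∤ |C_T(V)|`.** -/
theorem final {A V R : Subgroup G} {g : G} (h : CaseI A V R g)
    (hu35 : ∀ {F : Type} [Field F] [Fintype F] (_ : Fintype.card F = 25) (T : Subgroup G) [T.Normal]
      (_ : Subgroup.centralizer (T : Set G) = ⊥) (_ : T ≃* PSU 3 F 5), V ≤ T → False)
    (hCRA : Nat.card (centralizer (R : Set G)) < Nat.card A) {T : Subgroup G} [hT : T.Normal]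
    (hC : centralizer (T : Set G) = ⊥) (hs : IsSimpleGroup T) (hna : ∃ a b : T, a * b ≠ b * a) (hsup : T ⊔ A = ⊤)
    (hVT : V ≤ T) (hD : Nat.card (T ⊓ centralizer (V : Set G) : Subgroup G) = 4 ∨
      Nat.card (T ⊓ centralizer (V : Set G) : Subgroup G) = 12) (hA : Nat.card A = 72 ∨ Nat.card A = 144) :
    Nat.card G ∈ ({1876896, 3753792, 2520, 5040} : Set ℕ) := by
  have hW : Nat.card (V.subgroupOf T) = 4 := by
    rw [Nat.card_congr (subgroupOfEquivOfLe hVT).toEquiv, h.cardV]
  have hW2 : ∀ x ∈ V.subgroupOf T, x * x = 1 := fun x hx => Subtype.ext (h.expV x (mem_subgroupOf.1 hx))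
  have hCW := card_centralizer_inf hVT
  have hNW := card_normalizer_inf hVT
  have hnsT : ¬ Group.IsSolvable T := by
    intro hsol
    obtain ⟨a, b, hab⟩ := hna
    exact hab (IsSimpleGroup.comm_iff_isSolvable.2 hsol a b)
  -- the abelian case
  have habs : Nat.card (T ⊓ centralizer (V : Set G) : Subgroup G) = 4 → OutComm T → False := by
    intro h4 hO
    have hRT : R ⊓ T = ⊥ := by
      have h1 : R ⊓ T ≤ T ⊓ centralizer (V : Set G) := by
        rintro x ⟨hxR, hxT⟩
        exact ⟨hxT, mem_centralizer_iff.2 fun v hv => h.centVR v hv x hxR⟩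
      have h2 := card_dvd_of_le h1
      have h3 : Nat.card (R ⊓ T : Subgroup G) ∣ Nat.card R := card_dvd_of_le inf_le_left
      rw [h4] at h2
      rw [h.cardR] at h3
      have h5 : Nat.card (R ⊓ T : Subgroup G) ∣ Nat.gcd 4 3 := Nat.dvd_gcd h2 h3
      have h6 : Nat.card (R ⊓ T : Subgroup G) = 1 := Nat.dvd_one.1 h5
      exact card_eq_one.1 h6
    have h1 := card_le_of_le (le_centralizer_of h.normR hRT (commutator_mem hC hO))
    omega
  rcases maxList hna hW hW2 (by
    rw [hCW]
    rcases hD with h1 | h1 <;> rw [h1] <;> norm_num) with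
    ⟨F, _, _, hF, ⟨e⟩⟩ | ⟨⟨e⟩⟩ | ⟨F, _, _, hF, ⟨e⟩⟩ | ⟨F, _, _, q, hF, hq, ⟨e⟩⟩ | hM
  · -- `PSL₂`
    exfalso
    have h2 : (2 : F) ≠ 0 := H219.FourSelf.two_ne hF
    refine habs (card_of_self hVT h.cardV h.expV ?_) ((SectRankFour.OutAb.outComm_psl_two F).congr e.symm)
    intro a b x ha hb hx ha1 hb1 hab hxa hxb
    obtain ⟨S, m, hS, -⟩ := Lib.PSL2Torus.exists_torus h2 e (t := (⟨a, hVT ha⟩ : T))
      (fun h1 => ha1 (congrArg Subtype.val h1)) (Subtype.ext (h.expV a ha))
    have hba : b * a = a * b := by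
      have h1 := h.expV _ (V.mul_mem hb ha)
      have h2 := h.expV b hb
      have h3 := h.expV a ha
      calc b * a = b * (b * a * (b * a)) * a := by rw [h1]; group
        _ = (b * b) * (a * b) * (a * a) := by group
        _ = a * b := by rw [h2, h3]; group
    rcases hS.centralizer_four (u := ⟨b, hVT hb⟩) (x := ⟨x, hx⟩) (fun h1 => hb1 (congrArg Subtype.val h1))
      (Subtype.ext (h.expV b hb)) (fun h1 => hab (congrArg Subtype.val h1).symm) (Subtype.ext hba) (Subtype.ext hxa)
      (Subtype.ext hxb) with h1 | h1 | h1 | h1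
    · exact Or.inl (congrArg Subtype.val h1)
    · exact Or.inr (Or.inl (congrArg Subtype.val h1))
    · exact Or.inr (Or.inr (Or.inl (congrArg Subtype.val h1)))
    · exact Or.inr (Or.inr (Or.inr (congrArg Subtype.val h1)))
  · -- `A₇`
    rcases H219.FourCase.card_alt7 hC e with h1 | h1 <;> rw [h1] <;> simp
  · -- `PSL₃`
    have h2 : (2 : F) ≠ 0 := H219.FourSelf.two_ne (Nat.odd_iff.2 (by omega))
    have h1 := H500.Psl3Four.psl3_four h2 ((V.subgroupOf T).map e.toMonoidHom)
      (by rw [card_map_of_injective (f := e.toMonoidHom) e.injective, hW])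
      (by
        rintro _ ⟨x, hx, rfl⟩
        rw [← map_mul, hW2 x hx, map_one])
    rw [card_centralizer_map, card_normalizer_map, hCW, hNW] at h1
    rcases seven_or_three hD hF h1.1 with ⟨hd, hq⟩ | ⟨hd, hq⟩
    · exfalso
      exact habs hd (outAb_iff.1 (SectRankFour.OutLie.psl_three hnsT hq e))
    · have h3 := h1.2
      rw [hd, h.normV] at h3
      have h4 := card_mul_inf hsup
      rw [h3, Nat.card_congr e.toEquiv, card_psl3_seven hq] at h4
      rcases hA with hA | hA <;> rw [hA] at h4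
      · have : Nat.card G = 1876896 := by omega
        rw [this]; simp
      · have : Nat.card G = 3753792 := by omega
        rw [this]; simp
  · -- `PSU₃`
    exfalso
    have hqo : Odd q := Nat.odd_iff.2 (by omega)
    have h2 : (2 : F) ≠ 0 := H219.FourSelf.two_ne (by rw [hF]; exact hqo.pow)
    have hq1 : q ≠ 1 := by
      rintro rfl
      have := Fintype.one_lt_card (α := F)
      omega
    have h1 := H269.PsuFour.psu3_four hF h2 ((V.subgroupOf T).map e.toMonoidHom)
      (by rw [card_map_of_injective (f := e.toMonoidHom) e.injective, hW])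
      (by
        rintro _ ⟨x, hx, rfl⟩
        rw [← map_mul, hW2 x hx, map_one])
    rw [card_centralizer_map, hCW] at h1
    have hq5 := five_of hD hq hq1 h1
    subst hq5
    exact hu35 (by rw [hF]; norm_num) T hC e hVT
  · -- `M₁₁`
    exfalso
    refine habs (card_of_self hVT h.cardV h.expV ?_) (outAb_iff.1 (SectRankFour.AutM11.commutator_mulAut_le hM))
    intro a b x ha hb hx ha1 hb1 hab hxa hxb
    have hba : a * b = b * a := by
      have h1 := h.expV _ (V.mul_mem ha hb)
      have h2 := h.expV b hb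
      have h3 := h.expV a ha
      calc a * b = a * (a * b * (a * b)) * b := by rw [h1]; group
        _ = (a * a) * (b * a) * (b * b) := by group
        _ = b * a := by rw [h2, h3]; group
    exact SylowLFive.MElevenOut.four hM (hVT ha) (hVT hb) hx (h.expV a ha) (h.expV b hb) ha1 hb1 hab hba hxa hxb

end

end Cfsg.Agent.H5.Four
end

-- part: H5/Four/Case72
section
/-!
# `|A| = 72` (helper5)
-/

set_option autoImplicit false
set_option linter.unusedSectionVars false

namespace Cfsg.Agent.H5.Four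

open Subgroup Cfsg Cfsg.Agent.H399
open scoped commutatorElement Pointwise

universe u

section

variable {G : Type u} [Group G] [Finite G]

theorem even_fix {N V : Subgroup G} (hVN : V ≤ normalizer (N : Set G)) (hV : IsPGroup 2 V) (h : 2 ∣ Nat.card N) :
    2 ∣ Nat.card (N ⊓ centralizer (V : Set G) : Subgroup G) := by
  have : Fact (Nat.Prime 2) := ⟨Nat.prime_two⟩
  let f : V →* MulAut N := N.normalizerMonoidHom.comp (inclusion hVN)
  have hf : ∀ (v : V) (n : N), ((f v n : N) : G) = v * n * (v : G)⁻¹ := fun v n => rfl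
  let _ : MulAction V N := MulAction.compHom N f
  have hact : ∀ (v : V) (n : N), v • n = f v n := fun v n => rfl
  have h1 := hV.card_modEq_card_fixedPoints N
  have hiff : ∀ n : N, n ∈ MulAction.fixedPoints V N ↔ (n : G) ∈ centralizer (V : Set G) := by
    intro n
    rw [MulAction.mem_fixedPoints, mem_centralizer_iff]
    constructor
    · intro h v hv
      have h2 := congrArg Subtype.val (h ⟨v, hv⟩)
      rw [hact, hf] at h2
      change v * n * v⁻¹ = n at h2
      rwa [mul_inv_eq_iff_eq_mul] at h2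
    · intro h v
      apply Subtype.ext
      rw [hact, hf, mul_inv_eq_iff_eq_mul]
      exact h v v.2
  let e : MulAction.fixedPoints V N ≃ (N ⊓ centralizer (V : Set G) : Subgroup G) :=
    { toFun := fun x => ⟨x.1, x.1.2, (hiff _).1 x.2⟩
      invFun := fun x => ⟨⟨x.1, x.2.1⟩, (hiff _).2 x.2.2⟩
      left_inv := fun _ => rfl
      right_inv := fun _ => rfl }
  rw [← Nat.card_congr e]
  exact (Nat.modEq_zero_iff_dvd.1 (h1.symm.trans (Nat.modEq_zero_iff_dvd.2 h)))

/-- a nontrivial element of `V ∩ T`, `T` normalized by `R'` -/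
theorem le_of_mem' {A V R : Subgroup G} {g : G} (h : CaseI A V R g) {T : Subgroup G}
    (hT : ∀ y ∈ MulAut.conj g • R, ∀ x ∈ V, x ∈ T → y * x * y⁻¹ ∈ T) {x : G}
    (hxV : x ∈ V) (hxT : x ∈ T) (hx1 : x ≠ 1) : V ≤ T := by
  have hK := H219.FourCase.klein_of h.cardV h.expV
  -- an element of order three of `R'`
  have hR' : Nat.card (MulAut.conj g • R : Subgroup G) = 3 := by
    rw [← Nat.card_congr (Subgroup.equivSMul (MulAut.conj g) R).toEquiv, h.cardR]
  obtain ⟨⟨y, hy⟩, hy3⟩ := exists_prime_orderOf_dvd_card' (G := (MulAut.conj g • R : Subgroup G)) 3 (by rw [hR'])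
  have hyo : y ^ 3 = 1 := by
    have h1 := pow_orderOf_eq_one (⟨y, hy⟩ : (MulAut.conj g • R : Subgroup G))
    rw [hy3] at h1
    exact congrArg Subtype.val h1
  have hy1 : y ≠ 1 := by
    rintro rfl
    have : (⟨1, hy⟩ : (MulAut.conj g • R : Subgroup G)) = 1 := rfl
    rw [this, orderOf_one] at hy3
    norm_num at hy3
  have hyN : y ∈ normalizer (V : Set G) := by rw [h.normV]; exact h.RA hy
  have hconj : ∀ v ∈ V, y * v * y⁻¹ ∈ V := fun v hv => (mem_normalizer_iff.1 hyN v).1 hv
  have hc3 : ∀ z : G, y * (y * (y * z * y⁻¹) * y⁻¹) * y⁻¹ = z := fun z => by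
    have h1 : y * (y * (y * z * y⁻¹) * y⁻¹) * y⁻¹ = y ^ 3 * z * (y ^ 3)⁻¹ := by
      rw [pow_succ, pow_two]; group
    rw [h1, hyo, one_mul, inv_one, mul_one]
  have hne : y * x * y⁻¹ ≠ x := by
    intro hyx
    apply hy1
    apply h.RV y hy
    intro v hv
    by_cases hv1 : v = 1
    · rw [hv1, one_mul, mul_one]
    by_cases hvx : v = x
    · rw [hvx]
      rw [mul_inv_eq_iff_eq_mul] at hyx
      exact hyx.symm
    · -- `y v y⁻¹ ∈ {v, x v}`
      have h2 := H219.FourSelf.eq_fourGroup hK hxV hv hx1 hv1 (Ne.symm hvx) _ (hconj v hv)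
      rcases h2 with h2 | h2 | h2 | h2
      · exfalso
        apply hv1
        have h3 : y * v = y * 1 := by rw [mul_inv_eq_iff_eq_mul.1 h2, one_mul, mul_one]
        exact mul_left_cancel h3
      · exfalso
        apply hvx
        have h3 : y * v * y⁻¹ = y * x * y⁻¹ := by rw [h2, hyx]
        exact mul_left_cancel (mul_right_cancel h3)
      · rw [mul_inv_eq_iff_eq_mul] at h2
        exact h2.symm
      · exfalso
        have e1 : y * (x * v) * y⁻¹ = v := by
          calc y * (x * v) * y⁻¹ = (y * x * y⁻¹) * (y * v * y⁻¹) := by group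
            _ = x * (x * v) := by rw [hyx, h2]
            _ = v := by rw [← mul_assoc, h.expV x hxV, one_mul]
        have e2 := hc3 v
        rw [h2, e1, h2] at e2
        apply hx1
        rwa [mul_eq_right] at e2
  have hyT : y * x * y⁻¹ ∈ T := hT y hy x hxV hxT
  intro v hv
  have hy1' : y * x * y⁻¹ ≠ 1 := by
    intro h3
    apply hx1
    have h4 : y * x = y * 1 := by rw [mul_inv_eq_iff_eq_mul.1 h3, one_mul, mul_one]
    exact mul_left_cancel h4
  rcases H219.FourSelf.eq_fourGroup hK hxV (hconj x hxV) hx1 hy1' (Ne.symm hne) v hv with h2 | h2 | h2 | h2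
  · rw [h2]; exact T.one_mem
  · rw [h2]; exact hxT
  · rw [h2]; exact hyT
  · rw [h2]; exact T.mul_mem hxT hyT

/-- a nontrivial element of `V ∩ T`, `T` normal -/
theorem le_of_mem {A V R : Subgroup G} {g : G} (h : CaseI A V R g) {T : Subgroup G} [hT : T.Normal] {x : G}
    (hxV : x ∈ V) (hxT : x ∈ T) (hx1 : x ≠ 1) : V ≤ T :=
  le_of_mem' h (fun y _ x _ hx => hT.conj_mem x hx y) hxV hxT hx1

theorem comm_of_exp {V : Subgroup G} (hV2 : ∀ x ∈ V, x * x = 1) : ∀ a ∈ V, ∀ b ∈ V, a * b = b * a := by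
  intro a ha b hb
  have h1 := hV2 _ (V.mul_mem ha hb)
  have h2 := hV2 a ha
  have h3 := hV2 b hb
  calc a * b = a * (a * b * (a * b)) * b := by rw [h1]; group
    _ = (a * a) * (b * a) * (b * b) := by group
    _ = b * a := by rw [h2, h3]; group

/-- an involution centralizing `V`, `8 ∤ |C(V)|` -/
theorem mem_of_cent {V : Subgroup G} (hV : Nat.card V = 4) (hV2 : ∀ x ∈ V, x * x = 1)
    (h8 : ¬ 8 ∣ Nat.card (centralizer (V : Set G))) {x : G} (hx : x ∈ centralizer (V : Set G)) (hxx : x * x = 1) : x ∈ V := by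
  have : Fact (Nat.Prime 2) := ⟨Nat.prime_two⟩
  have hVp : IsPGroup 2 V := IsPGroup.of_card (n := 2) (by rw [hV]; norm_num)
  have hxp : IsPGroup 2 (zpowers x) := by
    rintro ⟨_, k, rfl⟩
    refine ⟨1, Subtype.ext ?_⟩
    change (x ^ k) ^ 2 ^ 1 = 1
    rw [pow_one, ← zpow_natCast, ← zpow_mul, mul_comm, zpow_mul, zpow_natCast, pow_two, hxx, one_zpow]
  have hxN : zpowers x ≤ normalizer (V : Set G) := by
    rw [zpowers_le]
    exact centralizer_le_normalizer _ hx
  have h1 : IsPGroup 2 (V ⊔ zpowers x : Subgroup G) := IsPGroup.to_sup_of_normal_left' hVp hxp hxN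
  have hle : V ⊔ zpowers x ≤ centralizer (V : Set G) := by
    refine sup_le (fun a ha => mem_centralizer_iff.2 fun b hb => comm_of_exp hV2 b hb a ha) ?_
    rw [zpowers_le]
    exact hx
  obtain ⟨k, hk⟩ := IsPGroup.iff_card.1 h1
  have hk2 : k ≤ 2 := by
    by_contra hcon
    apply h8
    refine Dvd.dvd.trans ?_ (card_dvd_of_le hle)
    rw [hk]
    exact pow_dvd_pow 2 (show 3 ≤ k by omega)
  have h2 : V = V ⊔ zpowers x := by
    apply eq_of_le_of_card_ge le_sup_left
    rw [hk, hV]
    calc 2 ^ k ≤ 2 ^ 2 := Nat.pow_le_pow_right (by norm_num) hk2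
      _ = 4 := by norm_num
  rw [h2]
  exact (le_sup_right : zpowers x ≤ _) (mem_zpowers x)

theorem two_dvd_min {T : Subgroup G} [T.Normal] (hmin : ∀ M : Subgroup G, M.Normal → M ≤ T → M = ⊥ ∨ M = T)
    (hna : ¬ ∀ x ∈ T, ∀ y ∈ T, Commute x y) : 2 ∣ Nat.card T := by
  obtain ⟨⟨U, hU⟩, hind, hsup, hsimp, hZ, -⟩ := Lib.MinNormalNonabelian.nonabelian_structure T hmin hna
  have := hsimp U hU
  have h5 : 4 ∣ Nat.card U := by
    apply H219.FourSelf.even_of_simple
    by_contra hcon
    push Not at hcon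
    obtain ⟨z, hz⟩ := exists_ne (1 : U)
    apply hz
    apply Subtype.ext
    apply hZ U hU z z.2
    intro s hs
    exact congrArg Subtype.val (hcon z ⟨s, hs⟩)
  exact (Dvd.dvd.trans (by norm_num) h5).trans (card_dvd_of_le hU.1)

theorem exists_inv {T V : Subgroup G} [T.Normal] (hV : IsPGroup 2 V) (h2 : 2 ∣ Nat.card T) :
    ∃ x ∈ T, x ∈ centralizer (V : Set G) ∧ x ≠ 1 ∧ x * x = 1 := by
  have : Fact (Nat.Prime 2) := ⟨Nat.prime_two⟩
  have h1 := even_fix (N := T) (V := V) (by rw [normalizer_eq_top]; exact le_top) hV h2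
  obtain ⟨⟨x, hxT, hxC⟩, hx⟩ := exists_prime_orderOf_dvd_card' 2 h1
  refine ⟨x, hxT, hxC, ?_, ?_⟩
  · rintro rfl
    have : (⟨1, hxT, hxC⟩ : (T ⊓ centralizer (V : Set G) : Subgroup G)) = 1 := rfl
    rw [this, orderOf_one] at hx
    norm_num at hx
  · have h3 := pow_orderOf_eq_one (⟨x, hxT, hxC⟩ : (T ⊓ centralizer (V : Set G) : Subgroup G))
    rw [hx, pow_two] at h3
    exact congrArg Subtype.val h3

theorem case_one_72 {A V R : Subgroup G} {g : G} (h : CaseI A V R g)
    (hu35 : ∀ {F : Type} [Field F] [Fintype F] (_ : Fintype.card F = 25) (T : Subgroup G) [T.Normal]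
      (_ : Subgroup.centralizer (T : Set G) = ⊥) (_ : T ≃* PSU 3 F 5), V ≤ T → False)
    (hA : Nat.card A = 72) (hCR : Nat.card (Subgroup.centralizer (R : Set G)) = 36)
    (hCV : Nat.card (Subgroup.centralizer (V : Set G)) = 12) :
    Nat.card G ∈ ({1876896, 3753792, 2520, 5040} : Set ℕ) := by
  have : Fact (Nat.Prime 2) := ⟨Nat.prime_two⟩
  have hAs : Group.IsSolvable A := S0144.result 2 3 3 2 Nat.prime_two Nat.prime_three (by rw [hA]; norm_num)
  have hVp : IsPGroup 2 V := IsPGroup.of_card (n := 2) (by rw [h.cardV]; norm_num)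
  obtain ⟨T, hTn, hmin, hna, hC, hsup⟩ := exists_min h.sol h.max h.core hAs
  obtain ⟨x, hxT, hxC, hx1, hxx⟩ := exists_inv (T := T) hVp (two_dvd_min hmin hna)
  have hxV := mem_of_cent h.cardV h.expV (by rw [hCV]; norm_num) hxC hxx
  have hVT : V ≤ T := le_of_mem h hxV hxT hx1
  have hs : IsSimpleGroup T := simple_of_sixteen hmin hna hVp (comm_of_exp h.expV) hVT (by rw [hCV]; norm_num)
  have hna' : ∃ a b : T, a * b ≠ b * a := by
    by_contra hcon
    push Not at hcon
    exact hna fun x hx y hy => congrArg Subtype.val (hcon ⟨x, hx⟩ ⟨y, hy⟩)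
  refine final h hu35 (by rw [hCR, hA]; norm_num) hC hs hna' hsup hVT ?_ (Or.inl hA)
  have h1 : Nat.card (T ⊓ centralizer (V : Set G) : Subgroup G) ∣ 12 := by
    rw [← hCV]
    exact card_dvd_of_le inf_le_right
  have h2 : 4 ∣ Nat.card (T ⊓ centralizer (V : Set G) : Subgroup G) := by
    rw [← h.cardV]
    exact card_dvd_of_le (le_inf hVT fun a ha => mem_centralizer_iff.2 fun b hb => comm_of_exp h.expV b hb a ha)
  have h3 : Nat.card (T ⊓ centralizer (V : Set G) : Subgroup G) ≤ 12 := Nat.le_of_dvd (by norm_num) h1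
  obtain ⟨k, hk⟩ := h2
  rw [hk] at h1 h3 ⊢
  have : k ≤ 3 := by omega
  interval_cases k
  · norm_num at h1
  · exact Or.inl rfl
  · norm_num at h1
  · exact Or.inr rfl

end

end Cfsg.Agent.H5.Four
end

-- part: H5/Four/Struct
section
/-!
# `|A| = 144`: the structure of `A` (helper5)
-/

set_option autoImplicit false
set_option linter.unusedSectionVars false

namespace Cfsg.Agent.H5.Four

open Subgroup Cfsg Cfsg.Agent.H399
open scoped commutatorElement Pointwise

universe u

section conj

variable {G : Type u} [Group G]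

theorem mem_cj {g x : G} {H : Subgroup G} : x ∈ MulAut.conj g • H ↔ g⁻¹ * x * g ∈ H := by
  rw [mem_pointwise_smul_iff_inv_smul_mem, MulAut.smul_def, ← map_inv, MulAut.conj_apply, inv_inv]

theorem card_cj (g : G) (H : Subgroup G) : Nat.card (MulAut.conj g • H : Subgroup G) = Nat.card H :=
  (Nat.card_congr (Subgroup.equivSMul (MulAut.conj g) H).toEquiv).symm

theorem normalizer_cj (g : G) (H : Subgroup G) :
    normalizer ((MulAut.conj g • H : Subgroup G) : Set G) = MulAut.conj g • normalizer (H : Set G) := by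
  ext x
  rw [mem_cj, mem_normalizer_iff, mem_normalizer_iff]
  constructor
  · intro h n
    have h1 := h (g * n * g⁻¹)
    rw [mem_cj, mem_cj] at h1
    have e1 : g⁻¹ * (g * n * g⁻¹) * g = n := by group
    have e2 : g⁻¹ * (x * (g * n * g⁻¹) * x⁻¹) * g = g⁻¹ * x * g * n * (g⁻¹ * x * g)⁻¹ := by group
    rwa [e1, e2] at h1
  · intro h n
    rw [mem_cj, mem_cj, h]
    have e2 : g⁻¹ * (x * n * x⁻¹) * g = g⁻¹ * x * g * (g⁻¹ * n * g) * (g⁻¹ * x * g)⁻¹ := by group
    rw [e2]

theorem centralizer_cj (g : G) (H : Subgroup G) :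
    centralizer ((MulAut.conj g • H : Subgroup G) : Set G) = MulAut.conj g • centralizer (H : Set G) := by
  ext x
  rw [mem_cj, mem_centralizer_iff, mem_centralizer_iff]
  constructor
  · intro h n hn
    have h1 := h (g * n * g⁻¹) (by
      change _ ∈ MulAut.conj g • H
      rw [mem_cj]
      have : g⁻¹ * (g * n * g⁻¹) * g = n := by group
      rwa [this])
    calc n * (g⁻¹ * x * g) = g⁻¹ * (g * n * g⁻¹ * x) * g := by group
      _ = g⁻¹ * (x * (g * n * g⁻¹)) * g := by rw [h1]
      _ = g⁻¹ * x * g * n := by group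
  · intro h n hn
    have hn' : g⁻¹ * n * g ∈ H := mem_cj.1 hn
    have h1 := h _ hn'
    calc n * x = g * ((g⁻¹ * n * g) * (g⁻¹ * x * g)) * g⁻¹ := by group
      _ = g * ((g⁻¹ * x * g) * (g⁻¹ * n * g)) * g⁻¹ := by rw [h1]
      _ = x * n := by group

theorem cj_cj (g : G) (H : Subgroup G) : MulAut.conj g⁻¹ • (MulAut.conj g • H) = H := by
  ext x
  rw [mem_cj, mem_cj, inv_inv]
  have : g⁻¹ * (g * x * g⁻¹) * g = x := by group
  rw [this]

end conj

section

variable {G : Type u} [Group G] [Finite G] {A V R : Subgroup G} {g : G}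

theorem R_le_B (h : CaseI A V R g) : R ≤ MulAut.conj g • A := by
  rw [← h.normR, ← normalizer_cj]
  refine le_trans (fun x hx => ?_) (centralizer_le_normalizer _)
  rw [mem_centralizer_iff]
  intro y hy
  exact (h.RR x hx y hy).symm

theorem R_le_A (h : CaseI A V R g) : R ≤ A := by
  rw [← h.normR]
  exact le_normalizer

theorem V_le_A (h : CaseI A V R g) : V ≤ A := by
  rw [← h.normV]
  exact le_normalizer

theorem V_conj (h : CaseI A V R g) {a v : G} (ha : a ∈ A) (hv : v ∈ V) : a * v * a⁻¹ ∈ V := by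
  rw [← h.normV] at ha
  exact (mem_normalizer_iff.1 ha v).1 hv

theorem R_conj (h : CaseI A V R g) {a v : G} (ha : a ∈ A) (hv : v ∈ R) : a * v * a⁻¹ ∈ R := by
  rw [← h.normR] at ha
  exact (mem_normalizer_iff.1 ha v).1 hv

theorem R'_conj (h : CaseI A V R g) {b v : G} (hb : b ∈ MulAut.conj g • A) (hv : v ∈ MulAut.conj g • R) :
    b * v * b⁻¹ ∈ MulAut.conj g • R := by
  rw [← h.normR, ← normalizer_cj] at hb
  exact (mem_normalizer_iff.1 hb v).1 hv

theorem R'_le_B (h : CaseI A V R g) : MulAut.conj g • R ≤ MulAut.conj g • A := by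
  intro x hx
  rw [mem_cj] at hx ⊢
  exact R_le_A h hx

theorem exists_gen (h : CaseI A V R g) : ∃ y ∈ MulAut.conj g • R, y ≠ 1 := by
  have h1 : 1 < Nat.card (MulAut.conj g • R : Subgroup G) := by
    rw [card_cj, h.cardR]
    norm_num
  have := Finite.one_lt_card_iff_nontrivial.1 h1
  obtain ⟨y, hy⟩ := exists_ne (1 : (MulAut.conj g • R : Subgroup G))
  exact ⟨y, y.2, fun h => hy (Subtype.ext h)⟩

theorem card_C (h : CaseI A V R g) (hA : Nat.card A = 144) : Nat.card (A ⊓ (MulAut.conj g • A) : Subgroup G) = 36 := by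
  have h1 := card_mul_index ((MulAut.conj g • A).subgroupOf A)
  have h2 : Nat.card ((MulAut.conj g • A).subgroupOf A) = Nat.card (A ⊓ (MulAut.conj g • A) : Subgroup G) := by
    rw [← inf_subgroupOf_left, Nat.card_congr (subgroupOfEquivOfLe inf_le_left).toEquiv]
  have h3 : ((MulAut.conj g • A).subgroupOf A).index = 4 := h.idx
  rw [h2, h3, hA] at h1
  omega

theorem coprime_inf {X Y : Subgroup G} {a b : ℕ} (hX : Nat.card X = a) (hY : Nat.card Y = b) (hab : Nat.Coprime a b) :
    X ⊓ Y = ⊥ := by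
  have h2 : Nat.card (X ⊓ Y : Subgroup G) ∣ a := hX ▸ card_dvd_of_le inf_le_left
  have h3 : Nat.card (X ⊓ Y : Subgroup G) ∣ b := hY ▸ card_dvd_of_le inf_le_right
  have h6 : Nat.card (X ⊓ Y : Subgroup G) = 1 := Nat.dvd_one.1 (hab ▸ Nat.dvd_gcd h2 h3)
  exact card_eq_one.1 h6

theorem C_inf_V (h : CaseI A V R g) : V ⊓ (MulAut.conj g • A) = ⊥ := by
  by_contra hcon
  obtain ⟨⟨x, hxV, hxB⟩, hx1⟩ := ne_bot_iff_exists_ne_one.1 hcon
  have hx1' : x ≠ 1 := fun h => hx1 (Subtype.ext h)
  have hVB : V ≤ MulAut.conj g • A := by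
    refine le_of_mem' h (fun y hy x _ hx => ?_) hxV hxB hx1'
    exact mul_mem (mul_mem (R'_le_B h hy) hx) (inv_mem (R'_le_B h hy))
  obtain ⟨y, hy, hy1⟩ := exists_gen h
  apply hy1
  apply h.RV y hy
  intro v hv
  have h1 : v * y * v⁻¹ * y⁻¹ ∈ MulAut.conj g • R := mul_mem (R'_conj h (hVB hv) hy) (inv_mem hy)
  have h2 : v * y * v⁻¹ * y⁻¹ ∈ V := by
    have : v * y * v⁻¹ * y⁻¹ = v * (y * v⁻¹ * y⁻¹) := by group
    rw [this]
    exact V.mul_mem hv (V_conj h (h.RA hy) (V.inv_mem hv))
  have h3 : V ⊓ (MulAut.conj g • R) = ⊥ := coprime_inf h.cardV ((card_cj g R).trans h.cardR) (by norm_num)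
  have h4 : v * y * v⁻¹ * y⁻¹ = 1 := by
    rw [← mem_bot, ← h3]
    exact ⟨h2, h1⟩
  rw [mul_inv_eq_one, mul_inv_eq_iff_eq_mul] at h4
  exact h4

/-- `A = V C` -/
theorem exists_mul (h : CaseI A V R g) (hA : Nat.card A = 144) {a : G} (ha : a ∈ A) :
    ∃ v ∈ V, ∃ c ∈ A ⊓ (MulAut.conj g • A), a = v * c := by
  have hc : IsComplement' (V.subgroupOf A) ((A ⊓ (MulAut.conj g • A)).subgroupOf A) := by
    apply isComplement'_of_card_mul_and_disjoint
    · rw [Nat.card_congr (subgroupOfEquivOfLe (V_le_A h)).toEquiv, Nat.card_congr (subgroupOfEquivOfLe inf_le_left).toEquiv,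
        h.cardV, card_C h hA, hA]
    · rw [disjoint_iff, eq_bot_iff]
      rintro ⟨x, hx⟩ ⟨hxV, hxC⟩
      have h1 : x ∈ V ⊓ (MulAut.conj g • A) := ⟨mem_subgroupOf.1 hxV, (mem_subgroupOf.1 hxC).2⟩
      rw [C_inf_V h, mem_bot] at h1
      exact mem_bot.2 (Subtype.ext h1)
  obtain ⟨⟨v, c⟩, hvc⟩ := hc.2 ⟨a, ha⟩
  refine ⟨(v : A), mem_subgroupOf.1 v.2, (c : A), mem_subgroupOf.1 c.2, ?_⟩
  exact (congrArg Subtype.val hvc).symm

/-- `C = A ∩ B` -/
def CC (A : Subgroup G) (g : G) : Subgroup G := A ⊓ (MulAut.conj g • A)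

/-- `K = C_C(V)` -/
def KK (A V : Subgroup G) (g : G) : Subgroup G := centralizer (V : Set G) ⊓ CC A g

theorem cent_le_A (h : CaseI A V R g) : centralizer (V : Set G) ≤ A := by
  rw [← h.normV]
  exact centralizer_le_normalizer _

theorem card_K (h : CaseI A V R g) (hA : Nat.card A = 144) (hCV : Nat.card (centralizer (V : Set G)) = 24) :
    Nat.card (KK A V g) = 6 := by
  have hN : ((centralizer (V : Set G)).subgroupOf A).Normal := by
    rw [normal_subgroupOf_iff_le_normalizer (cent_le_A h), ← h.normV]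
    intro x hx
    rw [mem_normalizer_iff]
    intro c
    have hx' : ∀ v, v ∈ V ↔ x * v * x⁻¹ ∈ V := mem_normalizer_iff.1 hx
    constructor
    · intro hc
      rw [mem_centralizer_iff] at hc ⊢
      intro v hv
      have h1 : x⁻¹ * v * x ∈ V := by
        rw [hx']
        have : x * (x⁻¹ * v * x) * x⁻¹ = v := by group
        rwa [this]
      have h2 := hc _ h1
      calc v * (x * c * x⁻¹) = x * ((x⁻¹ * v * x) * c) * x⁻¹ := by group
        _ = x * (c * (x⁻¹ * v * x)) * x⁻¹ := by rw [h2]
        _ = x * c * x⁻¹ * v := by group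
    · intro hc
      rw [mem_centralizer_iff] at hc ⊢
      intro v hv
      have h2 := hc _ ((hx' v).1 hv)
      calc v * c = x⁻¹ * (x * v * x⁻¹ * (x * c * x⁻¹)) * x := by group
        _ = x⁻¹ * (x * c * x⁻¹ * (x * v * x⁻¹)) * x := by rw [h2]
        _ = c * v := by group
  have hsup : (centralizer (V : Set G)).subgroupOf A ⊔ (CC A g).subgroupOf A = ⊤ := by
    rw [eq_top_iff]
    rintro ⟨a, ha⟩ _
    obtain ⟨v, hv, c, hc, rfl⟩ := exists_mul h hA ha
    have e : (⟨v * c, ha⟩ : A) = ⟨v, V_le_A h hv⟩ * ⟨c, hc.1⟩ := rfl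
    rw [e]
    refine mul_mem (mem_sup_left ?_) (mem_sup_right ?_)
    · rw [mem_subgroupOf]
      exact mem_centralizer_iff.2 fun w hw => comm_of_exp h.expV w hw v hv
    · rw [mem_subgroupOf]
      exact hc
  have h1 := card_mul_inf hsup
  rw [hA, Nat.card_congr (subgroupOfEquivOfLe (cent_le_A h)).toEquiv,
    Nat.card_congr (subgroupOfEquivOfLe (H := CC A g) (K := A) inf_le_left).toEquiv, hCV] at h1
  have h2 : Nat.card (CC A g) = 36 := card_C h hA
  have h3 : (centralizer (V : Set G)).subgroupOf A ⊓ (CC A g).subgroupOf A = (KK A V g).subgroupOf A := rfl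
  rw [h2, h3, Nat.card_congr (subgroupOfEquivOfLe (H := KK A V g) (K := A) (inf_le_right.trans inf_le_left)).toEquiv] at h1
  omega

theorem R_le_K (h : CaseI A V R g) : R ≤ KK A V g :=
  le_inf (fun x hx => mem_centralizer_iff.2 fun v hv => h.centVR v hv x hx) (le_inf (R_le_A h) (R_le_B h))

theorem K_conj (h : CaseI A V R g) {c k : G} (hc : c ∈ CC A g) (hk : k ∈ KK A V g) : c * k * c⁻¹ ∈ KK A V g := by
  refine mem_inf.2 ⟨?_, (CC A g).mul_mem ((CC A g).mul_mem hc hk.2) ((CC A g).inv_mem hc)⟩
  rw [mem_centralizer_iff]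
  intro v hv
  have h1 : c⁻¹ * v * c ∈ V := by
    have := V_conj h (inv_mem hc.1) hv
    rwa [inv_inv] at this
  have h2 := mem_centralizer_iff.1 hk.1 _ h1
  calc v * (c * k * c⁻¹) = c * ((c⁻¹ * v * c) * k) * c⁻¹ := by group
    _ = c * (k * (c⁻¹ * v * c)) * c⁻¹ := by rw [h2]
    _ = c * k * c⁻¹ * v := by group

/-- elements commuting with a 2-element centralizing `R'` and normalizing `V` -/
theorem cent_of (h : CaseI A V R g) {W : Subgroup G} (hW : IsPGroup 2 W) (hWA : W ≤ A)
    (hWR : ∀ w ∈ W, ∀ y ∈ MulAut.conj g • R, w * y = y * w) : W ≤ centralizer (V : Set G) := by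
  have : Fact (Nat.Prime 2) := ⟨Nat.prime_two⟩
  have h1 := even_fix (N := V) (V := W) (by rw [h.normV]; exact hWA) hW (by rw [h.cardV]; norm_num)
  obtain ⟨⟨x, hxV, hxC⟩, hx⟩ := exists_prime_orderOf_dvd_card' 2 h1
  have hx1 : x ≠ 1 := by
    rintro rfl
    have : (⟨1, hxV, hxC⟩ : (V ⊓ centralizer (W : Set G) : Subgroup G)) = 1 := rfl
    rw [this, orderOf_one] at hx
    norm_num at hx
  have h2 : V ≤ centralizer (W : Set G) := by
    refine le_of_mem' h (fun y hy x _ hx => ?_) hxV hxC hx1
    have hyW : y ∈ centralizer (W : Set G) := mem_centralizer_iff.2 fun w hw => hWR w hw y hy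
    exact mul_mem (mul_mem hyW hx) (inv_mem hyW)
  intro w hw
  rw [mem_centralizer_iff]
  intro v hv
  exact (mem_centralizer_iff.1 (h2 hv) w hw).symm

theorem zpowers_two {x : G} (hxx : x * x = 1) : IsPGroup 2 (zpowers x) := by
  rintro ⟨_, k, rfl⟩
  refine ⟨1, Subtype.ext ?_⟩
  change (x ^ k) ^ 2 ^ 1 = 1
  rw [pow_one, ← zpow_natCast, ← zpow_mul, mul_comm, zpow_mul, zpow_natCast, pow_two, hxx, one_zpow]

/-- an involution of `A` commuting with `R'` centralizes `V` -/
theorem cent_of_inv (h : CaseI A V R g) {x : G} (hx : x ∈ A) (hxx : x * x = 1)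
    (hxR : ∀ y ∈ MulAut.conj g • R, x * y = y * x) : x ∈ centralizer (V : Set G) := by
  refine cent_of h (zpowers_two hxx) (zpowers_le.2 hx) ?_ (mem_zpowers x)
  rintro _ ⟨k, rfl⟩ y hy
  have h1 : Commute x y := hxR y hy
  exact (h1.zpow_left k).eq

theorem cent_elem (h : CaseI A V R g) {u : G} (hu1 : u ≠ 1) (hu : ∀ a ∈ A, a * u = u * a) (huA : u ∈ A) :
    centralizer ({u} : Set G) = A := by
  have hle : A ≤ centralizer ({u} : Set G) := fun a ha => mem_centralizer_singleton_iff.2 (hu a ha)
  rcases h.max.le_iff.1 hle with h1 | h1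
  · exfalso
    apply hu1
    have hn : (zpowers u).Normal := by
      refine ⟨fun n hn x => ?_⟩
      obtain ⟨k, rfl⟩ := hn
      have hx : x ∈ centralizer ({u} : Set G) := by rw [h1]; exact mem_top x
      have hc : Commute x u := mem_centralizer_singleton_iff.1 hx
      have h2 := (hc.zpow_right k).eq
      change x * u ^ k * x⁻¹ ∈ _
      rw [h2, mul_inv_cancel_right]
      exact ⟨k, rfl⟩
    have h2 : zpowers u ≤ A.normalCore := normal_le_normalCore.2 (zpowers_le.2 huA)
    rw [h.core, zpowers_le, mem_bot] at h2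
    exact h2
  · exact h1

/-- a nontrivial involution of `K` does not commute with `R` -/
theorem K_nonab (h : CaseI A V R g) (hA : Nat.card A = 144) (hCV : Nat.card (centralizer (V : Set G)) = 24) :
    ¬ ∀ a ∈ KK A V g, ∀ b ∈ KK A V g, a * b = b * a := by
  intro hab
  have : Fact (Nat.Prime 2) := ⟨Nat.prime_two⟩
  have hK := card_K h hA hCV
  obtain ⟨⟨u, huK⟩, huo⟩ := exists_prime_orderOf_dvd_card' (G := KK A V g) 2 (by rw [hK]; norm_num)
  have hu1 : u ≠ 1 := by
    rintro rfl
    have : (⟨1, huK⟩ : KK A V g) = 1 := rfl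
    rw [this, orderOf_one] at huo
    norm_num at huo
  have huu : u * u = 1 := by
    have h3 := pow_orderOf_eq_one (⟨u, huK⟩ : KK A V g)
    rw [huo, pow_two] at h3
    exact congrArg Subtype.val h3
  -- the only involution of `K`
  have huniq : ∀ w ∈ KK A V g, w * w = 1 → w ≠ 1 → w = u := by
    intro w hw hww hw1
    by_contra hne
    have hc : Commute u w := hab u huK w hw
    have h1 : IsPGroup 2 (zpowers u ⊔ zpowers w : Subgroup G) := by
      apply IsPGroup.to_sup_of_normal_left' (zpowers_two huu) (zpowers_two hww)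
      rw [zpowers_le]
      refine centralizer_le_normalizer _ ?_
      rw [mem_centralizer_iff]
      rintro _ ⟨k, rfl⟩
      exact (hc.zpow_left k).eq
    have hle : zpowers u ⊔ zpowers w ≤ KK A V g := sup_le (zpowers_le.2 huK) (zpowers_le.2 hw)
    obtain ⟨k, hk⟩ := IsPGroup.iff_card.1 h1
    have h2 := card_dvd_of_le hle
    rw [hk, hK] at h2
    have hk1 : k ≤ 1 := by
      by_contra hcon
      have h3 : 2 ^ 2 ∣ 6 := (pow_dvd_pow 2 (show 2 ≤ k by omega)).trans h2
      norm_num at h3
    have h3 : Nat.card (zpowers u) = 2 := by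
      rw [Nat.card_zpowers]
      exact orderOf_eq_prime (by rw [pow_two, huu]) hu1
    have h4 : zpowers u = zpowers u ⊔ zpowers w := by
      apply eq_of_le_of_card_ge le_sup_left
      rw [hk, h3]
      calc 2 ^ k ≤ 2 ^ 1 := Nat.pow_le_pow_right (by norm_num) hk1
        _ = 2 := by norm_num
    have h5 : w ∈ zpowers u := by
      rw [h4]
      exact (le_sup_right : zpowers w ≤ _) (mem_zpowers w)
    obtain ⟨j, hj⟩ := h5
    change u ^ j = w at hj
    rcases Int.even_or_odd' j with ⟨m, rfl | rfl⟩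
    · rw [zpow_mul, zpow_ofNat, pow_two, huu, one_zpow] at hj
      exact hw1 hj.symm
    · rw [zpow_add, zpow_mul, zpow_ofNat, pow_two, huu, one_zpow, one_mul, zpow_one] at hj
      exact hne hj.symm
  have huC : ∀ c ∈ CC A g, c * u = u * c := by
    intro c hc
    have h1 := huniq _ (K_conj h hc huK) (by
      calc c * u * c⁻¹ * (c * u * c⁻¹) = c * (u * u) * c⁻¹ := by group
        _ = 1 := by rw [huu]; group) (by
      intro h2
      apply hu1
      have h3 : c * u = c * 1 := by rw [mul_inv_eq_iff_eq_mul.1 h2, one_mul, mul_one]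
      exact mul_left_cancel h3)
    rwa [mul_inv_eq_iff_eq_mul] at h1
  have huA : ∀ a ∈ A, a * u = u * a := by
    intro a ha
    obtain ⟨v, hv, c, hc, rfl⟩ := exists_mul h hA ha
    have h1 := mem_centralizer_iff.1 huK.1 v hv
    rw [mul_assoc, huC c hc, ← mul_assoc, h1, mul_assoc]
  have hcA := cent_elem h hu1 huA huK.2.1
  -- the conjugate
  set u' := g * u * g⁻¹ with hu'
  have hcB : centralizer ({u'} : Set G) = MulAut.conj g • A := by
    rw [← hcA]
    ext x
    rw [mem_cj, mem_centralizer_singleton_iff, mem_centralizer_singleton_iff]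
    constructor
    · intro h1
      calc g⁻¹ * x * g * u = g⁻¹ * (x * u') * g := by rw [hu']; group
        _ = g⁻¹ * (u' * x) * g := by rw [h1]
        _ = u * (g⁻¹ * x * g) := by rw [hu']; group
    · intro h1
      calc x * u' = g * (g⁻¹ * x * g * u) * g⁻¹ := by rw [hu']; group
        _ = g * (u * (g⁻¹ * x * g)) * g⁻¹ := by rw [h1]
        _ = u' * x := by rw [hu']; group
  have huB : u ∈ MulAut.conj g • A := huK.2.2
  have hu'A : u' ∈ A := by
    rw [← hcA, mem_centralizer_singleton_iff]
    rw [← hcB, mem_centralizer_singleton_iff] at huB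
    exact huB.symm
  have hu'u' : u' * u' = 1 := by
    calc u' * u' = g * (u * u) * g⁻¹ := by rw [hu']; group
      _ = 1 := by rw [huu]; group
  have hu'1 : u' ≠ 1 := by
    intro h1
    apply hu1
    have : u = g⁻¹ * u' * g := by rw [hu']; group
    rw [this, h1]
    group
  have hu'B : u' ∈ MulAut.conj g • A := by
    rw [← hcB, mem_centralizer_singleton_iff]
  have hu'V : u' ∈ centralizer (V : Set G) := by
    apply cent_of_inv h hu'A hu'u'
    intro y hy
    have h1 : y ∈ centralizer ({u'} : Set G) := by rw [hcB]; exact R'_le_B h hy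
    exact (mem_centralizer_singleton_iff.1 h1).symm
  have h1 : u' = u := huniq u' ⟨hu'V, hu'A, hu'B⟩ hu'u' hu'1
  rw [h1, hcA] at hcB
  have h2 := h.idx
  rw [← hcB, relIndex_self] at h2
  norm_num at h2

end

end Cfsg.Agent.H5.Four
end

-- part: H5/Four/Struct2
section
/-!
# `|A| = 144`: the structure of `A`, II (helper5)
-/

set_option autoImplicit false
set_option linter.unusedSectionVars false

namespace Cfsg.Agent.H5.Four

open Subgroup Cfsg Cfsg.Agent.H399
open scoped commutatorElement Pointwise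

universe u

section

variable {G : Type u} [Group G] [Finite G] {A V R : Subgroup G} {g : G}

theorem R_comm (h : CaseI A V R g) : ∀ a ∈ R, ∀ b ∈ R, a * b = b * a := by
  have : Fact (Nat.Prime 3) := ⟨Nat.prime_three⟩
  have hc : IsCyclic R := isCyclic_of_prime_card h.cardR
  intro a ha b hb
  exact congrArg Subtype.val ((IsCyclic.isMulCommutative (α := R)).is_comm.comm ⟨a, ha⟩ ⟨b, hb⟩)

/-- `C_K(R) = R` -/
theorem K_inf (h : CaseI A V R g) (hA : Nat.card A = 144) (hCV : Nat.card (centralizer (V : Set G)) = 24) :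
    KK A V g ⊓ centralizer (R : Set G) = R := by
  have hle : R ≤ KK A V g ⊓ centralizer (R : Set G) :=
    le_inf (R_le_K h) fun x hx => mem_centralizer_iff.2 fun y hy => R_comm h y hy x hx
  have hK := card_K h hA hCV
  have h1 : Nat.card (KK A V g ⊓ centralizer (R : Set G) : Subgroup G) ∣ 6 := hK ▸ card_dvd_of_le inf_le_left
  have h2 : 3 ∣ Nat.card (KK A V g ⊓ centralizer (R : Set G) : Subgroup G) := h.cardR ▸ card_dvd_of_le hle
  have h3 : Nat.card (KK A V g ⊓ centralizer (R : Set G) : Subgroup G) = 3 ∨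
      Nat.card (KK A V g ⊓ centralizer (R : Set G) : Subgroup G) = 6 := by
    obtain ⟨k, hk⟩ := h2
    rw [hk] at h1 ⊢
    have h4 : 3 * k ≤ 6 := Nat.le_of_dvd (by norm_num) h1
    have : k ≤ 2 := by omega
    interval_cases k
    · norm_num at h1
    · exact Or.inl rfl
    · exact Or.inr rfl
  rcases h3 with h3 | h3
  · exact (eq_of_le_of_card_ge hle (by rw [h3, h.cardR])).symm
  · exfalso
    apply K_nonab h hA hCV
    have h4 : KK A V g ⊓ centralizer (R : Set G) = KK A V g := eq_of_le_of_card_ge inf_le_left (by rw [h3, hK])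
    have hKR : ∀ k ∈ KK A V g, ∀ r ∈ R, r * k = k * r := fun k hk r hr => by
      have h5 : k ∈ KK A V g ⊓ centralizer (R : Set G) := by rw [h4]; exact hk
      exact mem_centralizer_iff.1 h5.2 r hr
    -- index two
    have h5 : (R.subgroupOf (KK A V g)).index = 2 := by
      have h6 := card_mul_index (R.subgroupOf (KK A V g))
      rw [Nat.card_congr (subgroupOfEquivOfLe (R_le_K h)).toEquiv, h.cardR, hK] at h6
      omega
    have hiff := fun (a b : KK A V g) => mul_mem_iff_of_index_two h5 (a := a) (b := b)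
    intro a ha b hb
    by_cases haR : a ∈ R
    · exact hKR b hb a haR
    by_cases hbR : b ∈ R
    · exact (hKR a ha b hbR).symm
    -- `a b ∈ R`
    have h6 : a * b ∈ R := by
      have h7 := (hiff ⟨a, ha⟩ ⟨b, hb⟩).2 (by
        rw [mem_subgroupOf, mem_subgroupOf]
        exact ⟨fun h8 => absurd h8 haR, fun h8 => absurd h8 hbR⟩)
      exact mem_subgroupOf.1 h7
    have h7 := hKR a ha _ h6
    have h8 : b * a = a * b := by
      have : a * (b * a) = a * (a * b) := by rw [← mul_assoc, h7]
      exact mul_left_cancel this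
    exact h8.symm

/-- an involution commuting with `V` and `R` lies in `V` -/
theorem mem_V_of (h : CaseI A V R g) (hA : Nat.card A = 144) (hCV : Nat.card (centralizer (V : Set G)) = 24) {x : G}
    (hx : x ∈ centralizer (V : Set G)) (hxx : x * x = 1) (hxR : x ∈ centralizer (R : Set G)) : x ∈ V := by
  obtain ⟨v, hv, c, hc, rfl⟩ := exists_mul h hA (cent_le_A h hx)
  have hvC : v ∈ centralizer (V : Set G) := mem_centralizer_iff.2 fun w hw => comm_of_exp h.expV w hw v hv
  have hcC : c ∈ centralizer (V : Set G) := by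
    have : c = v⁻¹ * (v * c) := by group
    rw [this]
    exact mul_mem (inv_mem hvC) hx
  have hvR : v ∈ centralizer (R : Set G) := mem_centralizer_iff.2 fun r hr => (h.centVR v hv r hr).symm
  have hcR : c ∈ centralizer (R : Set G) := by
    have : c = v⁻¹ * (v * c) := by group
    rw [this]
    exact mul_mem (inv_mem hvR) hxR
  have h1 : c ∈ R := by
    rw [← K_inf h hA hCV]
    exact ⟨⟨hcC, hc⟩, hcR⟩
  have h2 := mem_centralizer_iff.1 hcC v hv
  have h3 : c * c = 1 := by
    have h4 : v * c * (v * c) = (v * v) * (c * c) := by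
      calc v * c * (v * c) = v * (c * v) * c := by group
        _ = v * (v * c) * c := by rw [h2]
        _ = (v * v) * (c * c) := by group
    rw [hxx, h.expV v hv, one_mul] at h4
    exact h4.symm
  have h4 : c = 1 := by
    have h5 : (⟨c, h1⟩ : R) ^ 3 = 1 := by
      rw [← h.cardR]
      exact pow_card_eq_one'
    have h6 : c ^ 3 = 1 := congrArg Subtype.val h5
    rw [pow_succ, pow_two, h3, one_mul] at h6
    exact h6
  rw [h4, mul_one]
  exact hv

/-- `R` acts faithfully on `V'` -/
theorem RV' (h : CaseI A V R g) (hA : Nat.card A = 144) (hCV : Nat.card (centralizer (V : Set G)) = 24) {y : G}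
    (hy : y ∈ R) (hyV : ∀ x ∈ MulAut.conj g • V, x * y = y * x) : y = 1 := by
  by_contra hy1
  have : Fact (Nat.Prime 3) := ⟨Nat.prime_three⟩
  have hgen : ∀ r ∈ R, r ∈ zpowers y := by
    intro r hr
    have h1 := mem_zpowers_of_prime_card (G := R) (p := 3) h.cardR (g := ⟨y, hy⟩) (g' := ⟨r, hr⟩)
      (fun h2 => hy1 (congrArg Subtype.val h2))
    obtain ⟨k, hk⟩ := h1
    exact ⟨k, congrArg Subtype.val hk⟩
  have hVR : MulAut.conj g • V ≤ centralizer (R : Set G) := by
    intro x hx
    rw [mem_centralizer_iff]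
    intro r hr
    obtain ⟨k, rfl⟩ := hgen r hr
    have h1 : Commute x y := hyV x hx
    exact (h1.zpow_right k).eq.symm
  have hVA : MulAut.conj g • V ≤ A := by
    rw [← h.normR]
    exact hVR.trans (centralizer_le_normalizer _)
  have hVB : MulAut.conj g • V ≤ MulAut.conj g • A := by
    intro x hx
    rw [mem_cj] at hx ⊢
    exact V_le_A h hx
  have hVp : IsPGroup 2 (MulAut.conj g • V : Subgroup G) :=
    IsPGroup.of_card (n := 2) (by rw [card_cj, h.cardV]; norm_num)
  have h1 : MulAut.conj g • V ≤ centralizer (V : Set G) := by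
    apply cent_of h hVp hVA
    intro w hw y hy
    rw [mem_cj] at hw hy
    have h2 := h.centVR _ hw _ hy
    calc w * y = g * (g⁻¹ * w * g * (g⁻¹ * y * g)) * g⁻¹ := by group
      _ = g * (g⁻¹ * y * g * (g⁻¹ * w * g)) * g⁻¹ := by rw [h2]
      _ = y * w := by group
  have h2 : MulAut.conj g • V ≤ KK A V g := le_inf h1 (le_inf hVA hVB)
  have h3 := card_dvd_of_le h2
  rw [card_cj, h.cardV, card_K h hA hCV] at h3
  norm_num at h3

/-- the configuration is symmetric -/
theorem symm (h : CaseI A V R g) (hA : Nat.card A = 144) (hCV : Nat.card (centralizer (V : Set G)) = 24) :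
    CaseI (MulAut.conj g • A) (MulAut.conj g • V) (MulAut.conj g • R) g⁻¹ where
  sol := h.sol
  max := by
    refine ⟨?_, ?_⟩
    · intro h1
      apply h.max.1
      have h2 : MulAut.conj g⁻¹ • (MulAut.conj g • A) = A := cj_cj g A
      rw [h1] at h2
      rw [← h2, eq_top_iff]
      intro x _
      rw [mem_cj]
      exact mem_top _
    · intro X hX
      have h1 : A < MulAut.conj g⁻¹ • X := by
        constructor
        · intro a ha
          rw [mem_cj, inv_inv]
          apply hX.1
          rw [mem_cj]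
          have : g⁻¹ * (g * a * g⁻¹) * g = a := by group
          rwa [this]
        · intro hle
          apply hX.2
          intro x hx
          rw [mem_cj]
          apply hle
          rw [mem_cj, inv_inv]
          have : g * (g⁻¹ * x * g) * g⁻¹ = x := by group
          rwa [this]
      have h2 := h.max.2 _ h1
      rw [eq_top_iff]
      intro x _
      have h3 : g⁻¹ * x * g ∈ MulAut.conj g⁻¹ • X := by rw [h2]; exact mem_top _
      rw [mem_cj, inv_inv] at h3
      have : g * (g⁻¹ * x * g) * g⁻¹ = x := by group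
      rwa [this] at h3
  core := by
    rw [eq_bot_iff, ← h.core]
    rw [normal_le_normalCore]
    intro x hx
    have h1 : g * x * g⁻¹ ∈ (MulAut.conj g • A).normalCore := (inferInstance : ((MulAut.conj g • A).normalCore).Normal).conj_mem x hx g
    have h2 := (MulAut.conj g • A).normalCore_le h1
    rw [mem_cj] at h2
    have : g⁻¹ * (g * x * g⁻¹) * g = x := by group
    rwa [this] at h2
  cardV := by rw [card_cj, h.cardV]
  expV := by
    intro x hx
    rw [mem_cj] at hx
    have h1 := h.expV _ hx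
    calc x * x = g * (g⁻¹ * x * g * (g⁻¹ * x * g)) * g⁻¹ := by group
      _ = 1 := by rw [h1]; group
  cardR := by rw [card_cj, h.cardR]
  normV := by rw [normalizer_cj, h.normV]
  normR := by rw [normalizer_cj, h.normR]
  centVR := by
    intro w hw y hy
    rw [mem_cj] at hw hy
    have h2 := h.centVR _ hw _ hy
    calc w * y = g * (g⁻¹ * w * g * (g⁻¹ * y * g)) * g⁻¹ := by group
      _ = g * (g⁻¹ * y * g * (g⁻¹ * w * g)) * g⁻¹ := by rw [h2]
      _ = y * w := by group
  idx := by
    rw [cj_cj]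
    have h1 := card_mul_index (A.subgroupOf (MulAut.conj g • A))
    have h2 : Nat.card (A.subgroupOf (MulAut.conj g • A)) = Nat.card (A ⊓ (MulAut.conj g • A) : Subgroup G) := by
      rw [← inf_subgroupOf_right, Nat.card_congr (subgroupOfEquivOfLe inf_le_right).toEquiv]
    rw [h2, card_C h hA, card_cj, hA] at h1
    change (A.subgroupOf (MulAut.conj g • A)).index = 4
    omega
  RA := by
    rw [cj_cj]
    exact R_le_B h
  RR := by
    rw [cj_cj]
    intro x hx y hy
    exact (h.RR y hy x hx).symm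
  RV := by
    rw [cj_cj]
    exact fun y hy hyV => RV' h hA hCV hy hyV

end

end Cfsg.Agent.H5.Four
end

-- part: H5/Four/Struct3
section
/-!
# `|A| = 144`: the normal subgroup `T`, the Sylow 3-subgroup `Q` (helper5)
-/

set_option autoImplicit false
set_option linter.unusedSectionVars false

namespace Cfsg.Agent.H5.Four

open Subgroup Cfsg Cfsg.Agent.H399
open scoped commutatorElement Pointwise

universe u

section

variable {G : Type u} [Group G] [Finite G] {A V R : Subgroup G} {g : G}

theorem comm_R_T (h : CaseI A V R g) {T : Subgroup G} [hT : T.Normal] (hRT : R ⊓ T = ⊥) {x : G} (hxA : x ∈ A) (hxT : x ∈ T) :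
    x ∈ centralizer (R : Set G) := by
  rw [mem_centralizer_iff]
  intro r hr
  have h1 : x * r * x⁻¹ * r⁻¹ ∈ R ⊓ T := by
    refine ⟨R.mul_mem (R_conj h hxA hr) (R.inv_mem hr), ?_⟩
    have : x * r * x⁻¹ * r⁻¹ = x * (r * x⁻¹ * r⁻¹) := by group
    rw [this]
    exact T.mul_mem hxT (hT.conj_mem _ (T.inv_mem hxT) r)
  rw [hRT, mem_bot, mul_inv_eq_one, mul_inv_eq_iff_eq_mul] at h1
  exact h1.symm

theorem R_inf (h : CaseI A V R g) {T : Subgroup G} (hRT : ¬ R ≤ T) : R ⊓ T = ⊥ := by
  have h1 : Nat.card (R ⊓ T : Subgroup G) ∣ 3 := h.cardR ▸ card_dvd_of_le inf_le_left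
  rcases (Nat.dvd_prime Nat.prime_three).1 h1 with h2 | h2
  · exact card_eq_one.1 h2
  · exfalso
    apply hRT
    have h3 : R ⊓ T = R := eq_of_le_of_card_ge inf_le_left (by rw [h2, h.cardR])
    rw [← h3]
    exact inf_le_right

theorem V_le_T (h : CaseI A V R g) (hA : Nat.card A = 144) (hCV : Nat.card (centralizer (V : Set G)) = 24)
    {T : Subgroup G} [hT : T.Normal] (h2 : 2 ∣ Nat.card T) : V ≤ T := by
  have hVp : IsPGroup 2 V := IsPGroup.of_card (n := 2) (by rw [h.cardV]; norm_num)
  obtain ⟨x, hxT, hxC, hx1, hxx⟩ := exists_inv (T := T) hVp h2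
  by_cases hRT : R ≤ T
  · obtain ⟨y, hy, hy1⟩ := exists_gen h
    have hyT : y ∈ T := by
      rw [mem_cj] at hy
      have h1 := hT.conj_mem _ (hRT hy) g
      have : g * (g⁻¹ * y * g) * g⁻¹ = y := by group
      rwa [this] at h1
    have h1 : ∃ v ∈ V, v * y ≠ y * v := by
      by_contra hcon
      push Not at hcon
      exact hy1 (h.RV y hy hcon)
    obtain ⟨v, hv, hvy⟩ := h1
    refine le_of_mem h (x := v * y * v⁻¹ * y⁻¹) ?_ ?_ ?_
    · have : v * y * v⁻¹ * y⁻¹ = v * (y * v⁻¹ * y⁻¹) := by group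
      rw [this]
      exact V.mul_mem hv (V_conj h (h.RA hy) (V.inv_mem hv))
    · exact T.mul_mem (hT.conj_mem _ hyT v) (T.inv_mem hyT)
    · intro h3
      rw [mul_inv_eq_one, mul_inv_eq_iff_eq_mul] at h3
      exact hvy h3
  · exact le_of_mem h (mem_V_of h hA hCV hxC hxx (comm_R_T h (R_inf h hRT) (cent_le_A h hxC) hxT)) hxT hx1

theorem card_cent_cent (h : CaseI A V R g) (hA : Nat.card A = 144) (hCV : Nat.card (centralizer (V : Set G)) = 24) :
    Nat.card (centralizer (V : Set G) ⊓ centralizer (R : Set G) : Subgroup G) = 12 := by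
  have hVle : V ≤ centralizer (V : Set G) ⊓ centralizer (R : Set G) :=
    le_inf (fun v hv => mem_centralizer_iff.2 fun w hw => comm_of_exp h.expV w hw v hv)
      (fun v hv => mem_centralizer_iff.2 fun r hr => (h.centVR v hv r hr).symm)
  have hRle : R ≤ centralizer (V : Set G) ⊓ centralizer (R : Set G) :=
    le_inf (fun r hr => mem_centralizer_iff.2 fun v hv => h.centVR v hv r hr)
      (fun r hr => mem_centralizer_iff.2 fun s hs => R_comm h s hs r hr)
  have h1 := card_dvd_of_le hVle
  have h2 := card_dvd_of_le hRle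
  rw [h.cardV] at h1
  rw [h.cardR] at h2
  have h3 : 12 ∣ Nat.card (centralizer (V : Set G) ⊓ centralizer (R : Set G) : Subgroup G) :=
    (Nat.Coprime.mul_dvd_of_dvd_of_dvd (by norm_num : Nat.Coprime 4 3) h1 h2)
  have h4 : Nat.card (centralizer (V : Set G) ⊓ centralizer (R : Set G) : Subgroup G) ≤ 12 := by
    let f : V × R → (centralizer (V : Set G) ⊓ centralizer (R : Set G) : Subgroup G) :=
      fun x => ⟨x.1 * x.2, mul_mem (hVle x.1.2) (hRle x.2.2)⟩
    have hf : Function.Surjective f := by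
      rintro ⟨x, hxV, hxR⟩
      obtain ⟨v, hv, c, hc, rfl⟩ := exists_mul h hA (cent_le_A h hxV)
      have hcC : c ∈ centralizer (V : Set G) := by
        have : c = v⁻¹ * (v * c) := by group
        rw [this]
        exact mul_mem (inv_mem (hVle hv).1) hxV
      have hcR : c ∈ centralizer (R : Set G) := by
        have : c = v⁻¹ * (v * c) := by group
        rw [this]
        exact mul_mem (inv_mem (hVle hv).2) hxR
      have h1 : c ∈ R := by
        rw [← K_inf h hA hCV]
        exact ⟨⟨hcC, hc⟩, hcR⟩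
      exact ⟨(⟨v, hv⟩, ⟨c, h1⟩), rfl⟩
    have h5 := Nat.card_le_card_of_surjective f hf
    rw [Nat.card_prod, h.cardV, h.cardR] at h5
    exact h5
  have h5 := Nat.le_of_dvd Nat.card_pos h3
  (clear * - h4 h5; omega)

theorem card_D (h : CaseI A V R g) (hA : Nat.card A = 144) (hCV : Nat.card (centralizer (V : Set G)) = 24)
    {T : Subgroup G} [hT : T.Normal] (hVT : V ≤ T) :
    (Nat.card (T ⊓ centralizer (V : Set G) : Subgroup G) = 4 ∨ Nat.card (T ⊓ centralizer (V : Set G) : Subgroup G) = 12) ∨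
      Nat.card (T ⊓ centralizer (V : Set G) : Subgroup G) = 24 := by
  have hVle : V ≤ T ⊓ centralizer (V : Set G) :=
    le_inf hVT (fun v hv => mem_centralizer_iff.2 fun w hw => comm_of_exp h.expV w hw v hv)
  have h1 := card_dvd_of_le hVle
  rw [h.cardV] at h1
  by_cases hRT : R ≤ T
  · have h2 : Nat.card R ∣ Nat.card (T ⊓ centralizer (V : Set G) : Subgroup G) :=
      card_dvd_of_le (le_inf hRT (fun r hr => mem_centralizer_iff.2 fun v hv => h.centVR v hv r hr))
    rw [h.cardR] at h2
    have h3 : 12 ∣ Nat.card (T ⊓ centralizer (V : Set G) : Subgroup G) :=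
      (Nat.Coprime.mul_dvd_of_dvd_of_dvd (by norm_num : Nat.Coprime 4 3) h1 h2)
    have h4 : Nat.card (T ⊓ centralizer (V : Set G) : Subgroup G) ∣ 24 := hCV ▸ card_dvd_of_le inf_le_right
    obtain ⟨k, hk⟩ := h3
    rw [hk] at h4 ⊢
    have h5 : 12 * k ≤ 24 := Nat.le_of_dvd (by norm_num) h4
    have : k ≤ 2 := by omega
    interval_cases k
    · norm_num at h4
    · exact Or.inl (Or.inr rfl)
    · exact Or.inr rfl
  · left
    have h2 : Nat.card (T ⊓ centralizer (V : Set G) : Subgroup G) ∣ 12 := by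
      rw [← card_cent_cent h hA hCV]
      apply card_dvd_of_le
      rintro x ⟨hxT, hxC⟩
      exact ⟨hxC, comm_R_T h (R_inf h hRT) (cent_le_A h hxC) hxT⟩
    obtain ⟨k, hk⟩ := h1
    rw [hk] at h2 ⊢
    have h5 : 4 * k ≤ 12 := Nat.le_of_dvd (by norm_num) h2
    have : k ≤ 3 := by omega
    interval_cases k
    · norm_num at h2
    · exact Or.inl rfl
    · norm_num at h2
    · exact Or.inr rfl

theorem CC_symm (A : Subgroup G) (g : G) : CC (MulAut.conj g • A) g⁻¹ = CC A g := by
  rw [CC, cj_cj, inf_comm]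
  rfl

/-- `|C_T(V)| = 24` : `T = G` -/
theorem eq_top (h : CaseI A V R g) (hA : Nat.card A = 144) (hCV : Nat.card (centralizer (V : Set G)) = 24)
    {T : Subgroup G} [hT : T.Normal] (hsup : T ⊔ A = ⊤)
    (hD : Nat.card (T ⊓ centralizer (V : Set G) : Subgroup G) = 24) : T = ⊤ := by
  have h' := symm h hA hCV
  have hB : Nat.card (MulAut.conj g • A : Subgroup G) = 144 := by rw [card_cj, hA]
  have hCV' : Nat.card (centralizer ((MulAut.conj g • V : Subgroup G) : Set G)) = 24 := by
    rw [centralizer_cj, card_cj, hCV]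
  have hCT : centralizer (V : Set G) ≤ T := by
    have h1 : T ⊓ centralizer (V : Set G) = centralizer (V : Set G) := eq_of_le_of_card_ge inf_le_right (by rw [hD, hCV])
    rw [← h1]
    exact inf_le_left
  have hCT' : centralizer ((MulAut.conj g • V : Subgroup G) : Set G) ≤ T := by
    rw [centralizer_cj]
    intro x hx
    rw [mem_cj] at hx
    have h1 := hT.conj_mem _ (hCT hx) g
    have : g * (g⁻¹ * x * g) * g⁻¹ = x := by group
    rwa [this] at h1
  set K := KK A V g with hKdef
  set K' := KK (MulAut.conj g • A) (MulAut.conj g • V) g⁻¹ with hK'def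
  have hK6 : Nat.card K = 6 := card_K h hA hCV
  have hK'6 : Nat.card K' = 6 := card_K h' hB hCV'
  have hKC : K ≤ CC A g := inf_le_right
  have hK'C : K' ≤ CC A g := by
    rw [← CC_symm]
    exact inf_le_right
  have hKconj : ∀ c ∈ CC A g, ∀ k ∈ K, c * k * c⁻¹ ∈ K := fun c hc k hk => K_conj h hc hk
  have hK'conj : ∀ c ∈ CC A g, ∀ k ∈ K', c * k * c⁻¹ ∈ K' := fun c hc k hk => K_conj h' (by rw [CC_symm]; exact hc) hk
  have hinf : ∀ n, n ∈ K → n ∈ K' → n = 1 := by
    intro n hn hn'
    have h1 : n ∈ centralizer (R : Set G) := by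
      rw [mem_centralizer_iff]
      intro r hr
      have h2 : n * r * n⁻¹ * r⁻¹ ∈ R := R.mul_mem (R_conj h (hKC hn).1 hr) (R.inv_mem hr)
      have h3 : n * r * n⁻¹ * r⁻¹ ∈ K' := by
        have : n * r * n⁻¹ * r⁻¹ = n * (r * n⁻¹ * r⁻¹) := by group
        rw [this]
        exact K'.mul_mem hn' (hK'conj r ⟨R_le_A h hr, R_le_B h hr⟩ _ (K'.inv_mem hn'))
      have h4 : n * r * n⁻¹ * r⁻¹ = 1 := RV' h hA hCV h2 fun x hx => mem_centralizer_iff.1 h3.1 x hx
      rw [mul_inv_eq_one, mul_inv_eq_iff_eq_mul] at h4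
      exact h4.symm
    have h2 : n ∈ R := by
      rw [← K_inf h hA hCV]
      exact ⟨hn, h1⟩
    exact RV' h hA hCV h2 fun x hx => mem_centralizer_iff.1 hn'.1 x hx
  have hcomm : ∀ k ∈ K, ∀ k' ∈ K', k * k' = k' * k := by
    intro k hk k' hk'
    have h1 : k * k' * k⁻¹ * k'⁻¹ = 1 := by
      apply hinf
      · have : k * k' * k⁻¹ * k'⁻¹ = k * (k' * k⁻¹ * k'⁻¹) := by group
        rw [this]
        exact K.mul_mem hk (hKconj k' (hK'C hk') _ (K.inv_mem hk))
      · exact K'.mul_mem (hK'conj k (hKC hk) _ hk') (K'.inv_mem hk')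
    rw [mul_inv_eq_one, mul_inv_eq_iff_eq_mul] at h1
    exact h1
  let f : K × K' →* (T ⊓ CC A g : Subgroup G) :=
    { toFun := fun x => ⟨x.1 * x.2, mul_mem (mem_inf.2 ⟨hCT x.1.2.1, hKC x.1.2⟩) (mem_inf.2 ⟨hCT' x.2.2.1, hK'C x.2.2⟩)⟩
      map_one' := by ext; simp only [_root_.Prod.fst_one, _root_.OneMemClass.coe_one, _root_.Prod.snd_one, _root_.mul_one]
      map_mul' := by
        rintro ⟨⟨a, ha⟩, ⟨b, hb⟩⟩ ⟨⟨c, hc'⟩, ⟨d, hd⟩⟩
        apply Subtype.ext
        change a * c * (b * d) = a * b * (c * d)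
        have h1 := hcomm c hc' b hb
        calc a * c * (b * d) = a * (c * b) * d := by group
          _ = a * (b * c) * d := by rw [h1]
          _ = a * b * (c * d) := by group }
  have hf : Function.Injective f := by
    rw [injective_iff_map_eq_one]
    rintro ⟨⟨a, ha⟩, ⟨b, hb⟩⟩ h1
    have h1 : a * b = 1 := congrArg Subtype.val h1
    have h2 : a = b⁻¹ := eq_inv_of_mul_eq_one_left h1
    have h3 : a = 1 := hinf a ha (by rw [h2]; exact K'.inv_mem hb)
    subst h3
    have h4 : b = 1 := by rwa [one_mul] at h1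
    subst h4
    rfl
  have h1 := card_dvd_of_injective f hf
  rw [Nat.card_prod, hK6, hK'6] at h1
  have h2 := Nat.le_of_dvd Nat.card_pos h1
  have h3 : T ⊓ CC A g = CC A g := by
    apply eq_of_le_of_card_ge inf_le_right
    have h4 : Nat.card (CC A g) = 36 := card_C h hA
    rw [h4]
    exact h2
  have hVT : V ≤ T := le_trans (fun v hv => mem_centralizer_iff.2 fun w hw => comm_of_exp h.expV w hw v hv) hCT
  have hAT : A ≤ T := by
    intro a ha
    obtain ⟨v, hv, c, hc, rfl⟩ := exists_mul h hA ha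
    have h4 : c ∈ T ⊓ CC A g := by rw [h3]; exact hc
    exact T.mul_mem (hVT hv) h4.1
  rw [← hsup, sup_eq_left.2 hAT]

/-! ### The subgroup `Q = R R'` -/

/-- `Q = R R'` -/
def QQ (R : Subgroup G) (g : G) : Subgroup G := R ⊔ (MulAut.conj g • R)

theorem mem_Q (h : CaseI A V R g) {z : G} : z ∈ QQ R g ↔ ∃ x ∈ R, ∃ y ∈ MulAut.conj g • R, z = x * y := by
  have hle : MulAut.conj g • R ≤ normalizer (R : Set G) := by rw [h.normR]; exact h.RA
  rw [QQ, ← SetLike.mem_coe, coe_mul_of_right_le_normalizer_left _ _ hle]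
  constructor
  · rintro ⟨x, hx, y, hy, rfl⟩
    exact ⟨x, hx, y, hy, rfl⟩
  · rintro ⟨x, hx, y, hy, rfl⟩
    exact ⟨x, hx, y, hy, rfl⟩

theorem R_inf_R' (h : CaseI A V R g) : ∀ x, x ∈ R → x ∈ MulAut.conj g • R → x = 1 := fun x hx hx' =>
  h.RV x hx' fun v hv => h.centVR v hv x hx

theorem card_Q (h : CaseI A V R g) : Nat.card (QQ R g) = 9 := by
  let f : R × (MulAut.conj g • R : Subgroup G) → QQ R g := fun x => ⟨x.1 * x.2, (mem_Q h).2 ⟨x.1, x.1.2, x.2, x.2.2, rfl⟩⟩
  have hf : Function.Bijective f := by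
    constructor
    · rintro ⟨⟨a, ha⟩, ⟨b, hb⟩⟩ ⟨⟨c, hc⟩, ⟨d, hd⟩⟩ h1
      have h2 : a * b = c * d := congrArg Subtype.val h1
      have h3 : c⁻¹ * a = d * b⁻¹ := by
        rw [inv_mul_eq_iff_eq_mul, ← mul_assoc, ← h2]; group
      have h4 : c⁻¹ * a = 1 := R_inf_R' h _ (R.mul_mem (R.inv_mem hc) ha) (by
        rw [h3]; exact mul_mem hd (inv_mem hb))
      have h5 : a = c := by
        rw [inv_mul_eq_one] at h4
        exact h4.symm
      subst h5
      have h6 : b = d := mul_left_cancel h2
      subst h6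
      rfl
    · rintro ⟨z, hz⟩
      obtain ⟨x, hx, y, hy, rfl⟩ := (mem_Q h).1 hz
      exact ⟨(⟨x, hx⟩, ⟨y, hy⟩), rfl⟩
  rw [← Nat.card_congr (Equiv.ofBijective f hf), Nat.card_prod, h.cardR, card_cj, h.cardR]

theorem pow_three {X : Subgroup G} (hX : Nat.card X = 3) {x : G} (hx : x ∈ X) : x ^ 3 = 1 := by
  have h5 : (⟨x, hx⟩ : X) ^ 3 = 1 := by
    rw [← hX]
    exact pow_card_eq_one'
  exact congrArg Subtype.val h5

theorem Q_exp (h : CaseI A V R g) : ∀ z ∈ QQ R g, z ^ 3 = 1 := by
  intro z hz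
  obtain ⟨x, hx, y, hy, rfl⟩ := (mem_Q h).1 hz
  have hc : Commute x y := h.RR x hx y hy
  rw [hc.mul_pow, pow_three h.cardR hx, pow_three ((card_cj g R).trans h.cardR) hy, one_mul]

theorem R'_comm (h : CaseI A V R g) : ∀ a ∈ MulAut.conj g • R, ∀ b ∈ MulAut.conj g • R, a * b = b * a := by
  have : Fact (Nat.Prime 3) := ⟨Nat.prime_three⟩
  have hc : IsCyclic (MulAut.conj g • R : Subgroup G) := isCyclic_of_prime_card ((card_cj g R).trans h.cardR)
  intro a ha b hb
  exact congrArg Subtype.val ((IsCyclic.isMulCommutative (α := (MulAut.conj g • R : Subgroup G))).is_comm.comm ⟨a, ha⟩ ⟨b, hb⟩)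

theorem Q_comm (h : CaseI A V R g) : ∀ a ∈ QQ R g, ∀ b ∈ QQ R g, a * b = b * a := by
  intro a ha b hb
  obtain ⟨x, hx, y, hy, rfl⟩ := (mem_Q h).1 ha
  obtain ⟨z, hz, w, hw, rfl⟩ := (mem_Q h).1 hb
  have h1 : Commute x z := R_comm h x hx z hz
  have h2 : Commute x w := h.RR x hx w hw
  have h3 : Commute y z := (h.RR z hz y hy).symm
  have h4 : Commute y w := R'_comm h y hy w hw
  exact ((h1.mul_right h2).mul_left (h3.mul_right h4)).eq

theorem cent_Q (h : CaseI A V R g) (hA : Nat.card A = 144) (hCV : Nat.card (centralizer (V : Set G)) = 24) :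
    centralizer ((QQ R g : Subgroup G) : Set G) = QQ R g := by
  have hRQ : R ≤ QQ R g := le_sup_left
  have hR'Q : MulAut.conj g • R ≤ QQ R g := le_sup_right
  have h1 : centralizer ((QQ R g : Subgroup G) : Set G) ≤ centralizer (R : Set G) := centralizer_le hRQ
  have h2 : centralizer ((QQ R g : Subgroup G) : Set G) ≤ centralizer ((MulAut.conj g • R : Subgroup G) : Set G) :=
    centralizer_le hR'Q
  have h3 : centralizer ((QQ R g : Subgroup G) : Set G) ≤ A ⊓ (MulAut.conj g • A) := by
    refine le_inf (h1.trans ?_) (h2.trans ?_)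
    · rw [← h.normR]; exact centralizer_le_normalizer _
    · rw [← h.normR, ← normalizer_cj]; exact centralizer_le_normalizer _
  have hle : QQ R g ≤ centralizer ((QQ R g : Subgroup G) : Set G) := fun a ha =>
    mem_centralizer_iff.2 fun b hb => Q_comm h b hb a ha
  have h36 : Nat.card (centralizer ((QQ R g : Subgroup G) : Set G)) ∣ 36 := card_C h hA ▸ card_dvd_of_le h3
  have hodd : ¬ 2 ∣ Nat.card (centralizer ((QQ R g : Subgroup G) : Set G)) := by
    intro h4
    have : Fact (Nat.Prime 2) := ⟨Nat.prime_two⟩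
    obtain ⟨⟨t, ht⟩, hto⟩ := exists_prime_orderOf_dvd_card' 2 h4
    have ht1 : t ≠ 1 := by
      rintro rfl
      have : (⟨1, ht⟩ : centralizer ((QQ R g : Subgroup G) : Set G)) = 1 := rfl
      rw [this, orderOf_one] at hto
      norm_num at hto
    have htt : t * t = 1 := by
      have h3 := pow_orderOf_eq_one (⟨t, ht⟩ : centralizer ((QQ R g : Subgroup G) : Set G))
      rw [hto, pow_two] at h3
      exact congrArg Subtype.val h3
    have h5 := cent_of_inv h (h3 ht).1 htt (fun y hy => (mem_centralizer_iff.1 (h2 ht) y hy).symm)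
    have h6 := mem_V_of h hA hCV h5 htt (h1 ht)
    have h7 : t ∈ V ⊓ (MulAut.conj g • A) := ⟨h6, (h3 ht).2⟩
    rw [C_inf_V h, mem_bot] at h7
    exact ht1 h7
  have h9 : Nat.card (centralizer ((QQ R g : Subgroup G) : Set G)) ∣ 9 := by
    have hc : Nat.Coprime (Nat.card (centralizer ((QQ R g : Subgroup G) : Set G))) 4 := by
      rw [show (4 : ℕ) = 2 ^ 2 by norm_num]
      exact (Nat.Coprime.pow_right 2 ((Nat.Prime.coprime_iff_not_dvd Nat.prime_two).2 hodd).symm)
    have h10 : Nat.card (centralizer ((QQ R g : Subgroup G) : Set G)) ∣ 4 * 9 := h36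
    exact hc.dvd_of_dvd_mul_left h10
  exact (eq_of_le_of_card_ge hle (by rw [card_Q h]; exact Nat.le_of_dvd (by norm_num) h9)).symm

end

end Cfsg.Agent.H5.Four
end

-- part: H5/Four/Syl
section
/-!
# `|A| = 144`: `27 ∤ |G|` (helper5)
-/

set_option autoImplicit false
set_option linter.unusedSectionVars false

namespace Cfsg.Agent.H5.Four

open Subgroup Cfsg Cfsg.Agent.H399
open scoped commutatorElement Pointwise

universe u

section

variable {G : Type u} [Group G] [Finite G] {A V R : Subgroup G} {g : G}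

theorem mem_zp {X : Subgroup G} (hX : Nat.card X = 3) {x : G} (hx : x ∈ X) (hx1 : x ≠ 1) {r : G} (hr : r ∈ X) :
    r ∈ zpowers x := by
  have : Fact (Nat.Prime 3) := ⟨Nat.prime_three⟩
  obtain ⟨k, hk⟩ := mem_zpowers_of_prime_card (G := X) (p := 3) hX (g := ⟨x, hx⟩) (g' := ⟨r, hr⟩)
    (fun h2 => hx1 (congrArg Subtype.val h2))
  exact ⟨k, congrArg Subtype.val hk⟩

theorem mem_normalizer_of {X : Subgroup G} (hX : Nat.card X = 3) {x : G} (hx : x ∈ X) (hx1 : x ≠ 1) {a : G}
    (ha : a * x * a⁻¹ ∈ X) : a ∈ normalizer (X : Set G) := by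
  have h1 : MulAut.conj a • X = X := by
    apply eq_of_le_of_card_ge
    · intro y hy
      rw [mem_cj] at hy
      obtain ⟨k, hk⟩ := mem_zp hX hx hx1 hy
      change x ^ k = _ at hk
      have h2 : y = (a * x * a⁻¹) ^ k := by
        rw [conj_zpow, hk]; group
      rw [h2]
      exact X.zpow_mem ha k
    · rw [card_cj]
  rw [mem_normalizer_iff]
  intro n
  constructor
  · intro hn
    rw [← h1, mem_cj]
    have : a⁻¹ * (a * n * a⁻¹) * a = n := by group
    rwa [this]
  · intro hn
    rw [← h1, mem_cj] at hn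
    have : a⁻¹ * (a * n * a⁻¹) * a = n := by group
    rwa [this] at hn

theorem card_cent_conj (z x : G) : Nat.card (centralizer ({x * z * x⁻¹} : Set G)) = Nat.card (centralizer ({z} : Set G)) := by
  rw [← card_cj x (centralizer ({z} : Set G))]
  congr 2
  ext y
  rw [mem_cj, mem_centralizer_singleton_iff, mem_centralizer_singleton_iff]
  constructor
  · intro h1
    calc x⁻¹ * y * x * z = x⁻¹ * (y * (x * z * x⁻¹)) * x := by group
      _ = x⁻¹ * (x * z * x⁻¹ * y) * x := by rw [h1]
      _ = z * (x⁻¹ * y * x) := by group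
  · intro h1
    calc y * (x * z * x⁻¹) = x * (x⁻¹ * y * x * z) * x⁻¹ := by group
      _ = x * (z * (x⁻¹ * y * x)) * x⁻¹ := by rw [h1]
      _ = x * z * x⁻¹ * y := by group

theorem card_cent_inv (z : G) : Nat.card (centralizer ({z⁻¹} : Set G)) = Nat.card (centralizer ({z} : Set G)) := by
  congr 2
  ext y
  rw [mem_centralizer_singleton_iff, mem_centralizer_singleton_iff]
  constructor
  · intro h1
    have h2 : Commute y z⁻¹ := h1
    have := h2.inv_right
    rw [inv_inv] at this
    exact this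
  · intro h1
    have h2 : Commute y z := h1
    exact h2.inv_right

theorem card_cent_gen {X : Subgroup G} (hX : Nat.card X = 3) {x : G} (hx : x ∈ X) (hx1 : x ≠ 1) :
    centralizer ({x} : Set G) = centralizer (X : Set G) := by
  apply le_antisymm
  · intro y hy
    rw [mem_centralizer_singleton_iff] at hy
    rw [mem_centralizer_iff]
    intro r hr
    obtain ⟨k, rfl⟩ := mem_zp hX hx hx1 hr
    have h1 : Commute y x := hy
    exact (h1.zpow_right k).eq.symm
  · intro y hy
    rw [mem_centralizer_singleton_iff]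
    exact (mem_centralizer_iff.1 hy x hx).symm

theorem eq_or_inv {X : Subgroup G} (hX : Nat.card X = 3) {x : G} (hx : x ∈ X) (hx1 : x ≠ 1) {r : G} (hr : r ∈ X) (hr1 : r ≠ 1) :
    r = x ∨ r = x⁻¹ := by
  have hx3 := pow_three hX hx
  obtain ⟨k, hk⟩ := mem_zp hX hx hx1 hr
  change x ^ k = r at hk
  have h3 : x ^ (3 : ℤ) = 1 := by exact_mod_cast hx3
  have h1 : x ^ k = x ^ (k % 3) := by
    conv_lhs => rw [← Int.emod_add_mul_ediv k 3]
    rw [zpow_add, zpow_mul, h3, one_zpow, mul_one]
  have h2 : k % 3 = 0 ∨ k % 3 = 1 ∨ k % 3 = 2 := by omega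
  rcases h2 with h2 | h2 | h2
  · rw [h1, h2, zpow_zero] at hk
    exact absurd hk.symm hr1
  · rw [h1, h2, zpow_one] at hk
    exact Or.inl hk.symm
  · right
    rw [← hk, h1, h2, eq_inv_iff_mul_eq_one]
    have : x ^ (2 : ℤ) * x = x ^ 3 := by rw [zpow_ofNat, ← pow_succ]
    rw [this, hx3]

theorem not_27 (h : CaseI A V R g) (hA : Nat.card A = 144) (hCR : Nat.card (centralizer (R : Set G)) = 72)
    (hCV : Nat.card (centralizer (V : Set G)) = 24) : ¬ 27 ∣ Nat.card G := by
  intro h27
  have : Fact (Nat.Prime 3) := ⟨Nat.prime_three⟩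
  have : Fact (Nat.Prime 2) := ⟨Nat.prime_two⟩
  have hQp : IsPGroup 3 (QQ R g) := IsPGroup.of_card (n := 2) (by rw [card_Q h]; norm_num)
  obtain ⟨P, hQP⟩ := hQp.exists_le_sylow
  have hP27 : 3 ^ 3 ∣ Nat.card P := P.pow_dvd_card_of_pow_dvd_card (by simpa only [_root_.Nat.reducePow] using h27)
  have hR'c : Nat.card (MulAut.conj g • R : Subgroup G) = 3 := (card_cj g R).trans h.cardR
  have prR : ∀ x ∈ R, x ≠ 1 → Nat.card (centralizer ({x} : Set G)) = 72 := fun x hx hx1 => by
    rw [card_cent_gen h.cardR hx hx1, hCR]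
  have prR' : ∀ x ∈ MulAut.conj g • R, x ≠ 1 → Nat.card (centralizer ({x} : Set G)) = 72 := fun x hx hx1 => by
    rw [card_cent_gen hR'c hx hx1, centralizer_cj, card_cj, hCR]
  by_cases hall : ∀ z ∈ QQ R g, z ≠ 1 → Nat.card (centralizer ({z} : Set G)) = 72
  · -- the centre of `P`
    have hPnt : Nontrivial P := by
      rw [← Finite.one_lt_card_iff_nontrivial]
      have := Nat.le_of_dvd Nat.card_pos hP27
      omega
    obtain ⟨⟨z, hz⟩, hz1⟩ := ne_bot_iff_exists_ne_one.1 (P.2.bot_lt_center).ne'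
    have hz1' : (z : G) ≠ 1 := fun h1 => hz1 (Subtype.ext (Subtype.ext h1))
    have hzP : ∀ x ∈ (P : Subgroup G), x * (z : G) = z * x := fun x hx =>
      congrArg Subtype.val (mem_center_iff.1 hz ⟨x, hx⟩)
    have hzQ : (z : G) ∈ QQ R g := by
      have h1 : (z : G) ∈ centralizer ((QQ R g : Subgroup G) : Set G) := mem_centralizer_iff.2 fun q hq => hzP q (hQP hq)
      rwa [cent_Q h hA hCV] at h1
    have h1 : (P : Subgroup G) ≤ centralizer ({(z : G)} : Set G) := fun x hx => mem_centralizer_singleton_iff.2 (hzP x hx)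
    have h2 := card_dvd_of_le h1
    rw [hall z hzQ hz1'] at h2
    have h3 : 3 ^ 3 ∣ 72 := hP27.trans h2
    norm_num at h3
  · push Not at hall
    obtain ⟨z, hzQ, hz1, hzc⟩ := hall
    obtain ⟨x, hx, y, hy, rfl⟩ := (mem_Q h).1 hzQ
    have hx1 : x ≠ 1 := by
      rintro rfl
      rw [one_mul] at hzc hz1
      exact hzc (prR' y hy hz1)
    have hy1 : y ≠ 1 := by
      rintro rfl
      rw [mul_one] at hzc hz1
      exact hzc (prR x hx hz1)
    -- the involution `k`
    have hK6 := card_K h hA hCV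
    obtain ⟨⟨k, hkK⟩, hko⟩ := exists_prime_orderOf_dvd_card' (G := KK A V g) 2 (by rw [hK6]; norm_num)
    have hk1 : k ≠ 1 := by
      rintro rfl
      have : (⟨1, hkK⟩ : KK A V g) = 1 := rfl
      rw [this, orderOf_one] at hko
      norm_num at hko
    have hkk : k * k = 1 := by
      have h3 := pow_orderOf_eq_one (⟨k, hkK⟩ : KK A V g)
      rw [hko, pow_two] at h3
      exact congrArg Subtype.val h3
    have hkR' : ∀ w ∈ MulAut.conj g • R, k * w * k⁻¹ = w := by
      intro w hw
      have h1 : k * w * k⁻¹ * w⁻¹ ∈ MulAut.conj g • R := mul_mem (R'_conj h hkK.2.2 hw) (inv_mem hw)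
      have h2 : k * w * k⁻¹ * w⁻¹ ∈ KK A V g := by
        have : k * w * k⁻¹ * w⁻¹ = k * (w * k⁻¹ * w⁻¹) := by group
        rw [this]
        exact (KK A V g).mul_mem hkK (K_conj h ⟨h.RA hw, R'_le_B h hw⟩ ((KK A V g).inv_mem hkK))
      have h3 := h.RV _ h1 fun v hv => mem_centralizer_iff.1 h2.1 v hv
      rwa [mul_inv_eq_one] at h3
    have hkR : ∀ w ∈ R, w ≠ 1 → k * w * k⁻¹ = w⁻¹ := by
      intro w hw hw1
      have h1 : k * w * k⁻¹ ∈ R := R_conj h hkK.2.1 hw
      have h2 : k * w * k⁻¹ ≠ 1 := by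
        intro h3
        apply hw1
        have h4 : k * w = k * 1 := by rw [mul_inv_eq_iff_eq_mul.1 h3, one_mul, mul_one]
        exact mul_left_cancel h4
      rcases eq_or_inv h.cardR hw hw1 h1 h2 with h3 | h3
      · exfalso
        have h4 : k ∈ centralizer (R : Set G) := by
          rw [← card_cent_gen h.cardR hw hw1, mem_centralizer_singleton_iff]
          rwa [mul_inv_eq_iff_eq_mul] at h3
        have h5 : k ∈ R := by
          rw [← K_inf h hA hCV]
          exact ⟨hkK, h4⟩
        have h6 := pow_three h.cardR h5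
        rw [pow_succ, pow_two, hkk, one_mul] at h6
        exact hk1 h6
      · exact h3
    have hcxy : ∀ a ∈ R, ∀ b ∈ MulAut.conj g • R, a * b = b * a := h.RR
    -- all diagonal elements are bad
    have hbad : ∀ a ∈ R, a ≠ 1 → ∀ b ∈ MulAut.conj g • R, b ≠ 1 → Nat.card (centralizer ({a * b} : Set G)) ≠ 72 := by
      intro a ha ha1 b hb hb1 hc
      apply hzc
      rcases eq_or_inv h.cardR ha ha1 hx hx1 with hxa | hxa <;> rcases eq_or_inv hR'c hb hb1 hy hy1 with hyb | hyb <;>
        rw [hxa, hyb]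
      · exact hc
      · -- `a b⁻¹ = (a⁻¹ b)⁻¹ = (k a b k⁻¹)⁻¹`
        have e : a * b⁻¹ = (k * (a * b) * k⁻¹)⁻¹ := by
          have h1 : k * (a * b) * k⁻¹ = (k * a * k⁻¹) * (k * b * k⁻¹) := by group
          rw [h1, hkR a ha ha1, hkR' b hb, mul_inv_rev, inv_inv]
          exact hcxy a ha _ (inv_mem hb)
        rw [e, card_cent_inv, card_cent_conj, hc]
      · have e : a⁻¹ * b = k * (a * b) * k⁻¹ := by
          have h1 : k * (a * b) * k⁻¹ = (k * a * k⁻¹) * (k * b * k⁻¹) := by group
          rw [h1, hkR a ha ha1, hkR' b hb]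
        rw [e, card_cent_conj, hc]
      · have e : a⁻¹ * b⁻¹ = (a * b)⁻¹ := by
          rw [mul_inv_rev]
          exact hcxy _ (R.inv_mem ha) _ (inv_mem hb)
        rw [e, card_cent_inv, hc]
    have hgood : ∀ w ∈ QQ R g, w ≠ 1 → Nat.card (centralizer ({w} : Set G)) = 72 → w ∈ R ∨ w ∈ MulAut.conj g • R := by
      intro w hw hw1 hwc
      obtain ⟨a, ha, b, hb, rfl⟩ := (mem_Q h).1 hw
      by_cases ha1 : a = 1
      · right
        rw [ha1, one_mul]
        exact hb
      by_cases hb1 : b = 1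
      · left
        rw [hb1, mul_one]
        exact ha
      · exact absurd hwc (hbad a ha ha1 b hb hb1)
    -- an element of `N_P(Q) \ Q`
    have hQlt : (QQ R g).subgroupOf (P : Subgroup G) < ⊤ := by
      rw [lt_top_iff_ne_top]
      intro h1
      have h2 : (P : Subgroup G) ≤ QQ R g := by
        rwa [subgroupOf_eq_top] at h1
      have h3 := card_le_of_le h2
      rw [card_Q h] at h3
      have h4 := Nat.le_of_dvd Nat.card_pos hP27
      have h5 : Nat.card P = Nat.card (P : Subgroup G) := rfl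
      omega
    have hnil : Group.IsNilpotent P := P.2.isNilpotent
    have h1 := Group.normalizerCondition_of_isNilpotent _ hQlt
    obtain ⟨⟨p, hpP⟩, hpN, hpQ⟩ := SetLike.exists_of_lt h1
    have hpQ' : p ∉ QQ R g := fun h2 => hpQ (mem_subgroupOf.2 h2)
    have hpN' : ∀ w ∈ QQ R g, p * w * p⁻¹ ∈ QQ R g := by
      intro w hw
      have h2 := (mem_normalizer_iff.1 hpN ⟨w, hQP hw⟩).1 (mem_subgroupOf.2 hw)
      exact mem_subgroupOf.1 h2
    have hsmall : ∀ X : Subgroup G, Nat.card X = 144 → QQ R g ≤ X → p ∉ X := by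
      intro X hX hQX hpX
      apply hpQ'
      have h2 : IsPGroup 3 ((P : Subgroup G) ⊓ X : Subgroup G) := P.2.to_le inf_le_left
      obtain ⟨n, hn⟩ := IsPGroup.iff_card.1 h2
      have h3 : Nat.card ((P : Subgroup G) ⊓ X : Subgroup G) ∣ 144 := hX ▸ card_dvd_of_le inf_le_right
      have hn2 : n ≤ 2 := by
        by_contra hcon
        rw [hn] at h3
        have h4 : 3 ^ 3 ∣ 144 := (pow_dvd_pow 3 (show 3 ≤ n by omega)).trans h3
        norm_num at h4
      have h4 : QQ R g = (P : Subgroup G) ⊓ X := by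
        apply eq_of_le_of_card_ge (le_inf hQP hQX)
        rw [hn, card_Q h]
        calc 3 ^ n ≤ 3 ^ 2 := Nat.pow_le_pow_right (by norm_num) hn2
          _ = 9 := by norm_num
      rw [h4]
      exact ⟨hpP, hpX⟩
    have hpA : p ∉ A := hsmall A hA (sup_le (R_le_A h) h.RA)
    have hpB : p ∉ MulAut.conj g • A := hsmall _ (by rw [card_cj, hA]) (sup_le (R_le_B h) (R'_le_B h))
    have hne1 : ∀ w : G, w ≠ 1 → p * w * p⁻¹ ≠ 1 := by
      intro w hw1 h3
      apply hw1
      have h4 : p * w = p * 1 := by rw [mul_inv_eq_iff_eq_mul.1 h3, one_mul, mul_one]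
      exact mul_left_cancel h4
    have hto : ∀ w ∈ R, w ≠ 1 → p * w * p⁻¹ ∈ MulAut.conj g • R := by
      intro w hw hw1
      rcases hgood _ (hpN' w ((le_sup_left : R ≤ QQ R g) hw)) (hne1 w hw1) (by rw [card_cent_conj]; exact prR w hw hw1) with h2 | h2
      · exfalso
        apply hpA
        rw [← h.normR]
        exact mem_normalizer_of h.cardR hw hw1 h2
      · exact h2
    have hfrom : ∀ w ∈ MulAut.conj g • R, w ≠ 1 → p * w * p⁻¹ ∈ R := by
      intro w hw hw1
      rcases hgood _ (hpN' w ((le_sup_right : MulAut.conj g • R ≤ QQ R g) hw)) (hne1 w hw1)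
        (by rw [card_cent_conj]; exact prR' w hw hw1) with h2 | h2
      · exact h2
      · exfalso
        apply hpB
        rw [← h.normR, ← normalizer_cj]
        exact mem_normalizer_of hR'c hw hw1 h2
    have hp2 : p * p ∈ A := by
      rw [← h.normR]
      apply mem_normalizer_of h.cardR hx hx1
      have h2 := hfrom _ (hto x hx hx1) (hne1 x hx1)
      have e : p * (p * x * p⁻¹) * p⁻¹ = p * p * x * (p * p)⁻¹ := by group
      rwa [e] at h2
    apply hpA
    obtain ⟨n, hn⟩ := P.2 ⟨p, hpP⟩
    have hpn : p ^ 3 ^ n = 1 := congrArg Subtype.val hn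
    have hodd : Odd (3 ^ n) := Odd.pow (by decide)
    obtain ⟨m, hm⟩ := hodd
    have h2 : p = (p * p)⁻¹ ^ m := by
      have h3 : p * (p * p) ^ m = 1 := by
        rw [← pow_two, ← pow_mul, ← pow_succ', ← hm, hpn]
      rw [inv_pow]
      exact eq_inv_of_mul_eq_one_left h3
    rw [h2]
    exact A.pow_mem (A.inv_mem hp2) m

end

end Cfsg.Agent.H5.Four
end

-- part: H5/Four/Case144
section
/-!
# `|A| = 144`, up to the case `G` simple (helper5)
-/

set_option autoImplicit false
set_option linter.unusedSectionVars false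

namespace Cfsg.Agent.H5.Four

open Subgroup Cfsg Cfsg.Agent.H399
open scoped commutatorElement Pointwise

universe u

section

variable {G : Type u} [Group G] [Finite G]

/-- `case_one_144` up to the case `G` simple, `A ≅ S₃ × S₄` -/
theorem case_144_of {A V R : Subgroup G} {g : G} (h : CaseI A V R g)
    (hu35 : ∀ {F : Type} [Field F] [Fintype F] (_ : Fintype.card F = 25) (T : Subgroup G) [T.Normal]
      (_ : Subgroup.centralizer (T : Set G) = ⊥) (_ : T ≃* PSU 3 F 5), V ≤ T → False)
    (hA : Nat.card A = 144) (hCR : Nat.card (Subgroup.centralizer (R : Set G)) = 72)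
    (hCV : Nat.card (Subgroup.centralizer (V : Set G)) = 24)
    (hno : IsSimpleGroup G → (∃ a b : G, a * b ≠ b * a) → False) :
    Nat.card G ∈ ({1876896, 3753792, 2520, 5040} : Set ℕ) := by
  have : Fact (Nat.Prime 2) := ⟨Nat.prime_two⟩
  have hAs : Group.IsSolvable A := S0144.result 2 3 4 2 Nat.prime_two Nat.prime_three (by rw [hA]; norm_num)
  have hVp : IsPGroup 2 V := IsPGroup.of_card (n := 2) (by rw [h.cardV]; norm_num)
  obtain ⟨T, hTn, hmin, hna, hC, hsup⟩ := exists_min h.sol h.max h.core hAs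
  have hVT : V ≤ T := V_le_T h hA hCV (two_dvd_min hmin hna)
  have hs : IsSimpleGroup T := simple_of_sixteen hmin hna hVp (comm_of_exp h.expV) hVT (by rw [hCV]; norm_num)
  have hna' : ∃ a b : T, a * b ≠ b * a := by
    by_contra hcon
    push Not at hcon
    exact hna fun x hx y hy => congrArg Subtype.val (hcon ⟨x, hx⟩ ⟨y, hy⟩)
  rcases card_D h hA hCV hVT with hD | hD
  · exact final h hu35 (by rw [hCR, hA]; norm_num) hC hs hna' hsup hVT hD (Or.inr hA)
  · exfalso
    have hT := eq_top h hA hCV hsup hD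
    subst hT
    apply hno
    · have : Nontrivial G := (topEquiv (G := G)).symm.toEquiv.nontrivial
      exact IsSimpleGroup.isSimpleGroup_of_surjective (topEquiv (G := G)).toMonoidHom (topEquiv (G := G)).surjective
    · obtain ⟨a, b, hab⟩ := hna'
      exact ⟨a, b, fun h1 => hab (Subtype.ext h1)⟩

end

end Cfsg.Agent.H5.Four
end

private theorem dce_d70d27e4fc8a : _root_.True := by
  try have : _root_.True := by simp only [_root_.Cfsg.Agent.H5.Four.QQ.eq_1]
  try have : _root_.True := by simp only [_root_.Cfsg.Agent.H5.Four.CC.eq_1]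
  try have : _root_.True := by simp only [_root_.Cfsg.Agent.H500.Psl3Four.sd.eq_1]
  try have : _root_.True := by simp only [_root_.Cfsg.Agent.H500.Psl3Four.dd.eq_1]
  exact _root_.True.intro
end
end
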